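/-
Suborbit certificate DodDod.
-/
import Cfsg.Agent.Golay.Suborb

set_option autoImplicit false
set_option maxRecDepth 20000

namespace CfsgLib.Golay.Suborb.DodDod

/-- Masks of the base family. -/
def base : List ℕ := [340831, 16436384]

/-- Elements of the group fixing the base family. -/
def gens : List (List ℕ) :=
  [[13, 8, 3, 4, 18, 15, 2, 21, 16, 1, 14, 5, 6, 9, 23, 20, 0, 22, 12, 7, 17, 10, 11, 19],
   [2, 16, 3, 12, 13, 17, 9, 15, 0, 8, 21, 11, 4, 1, 10, 20, 6, 19, 18, 23, 5, 22, 7, 14],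
   [15, 23, 14, 10, 19, 9, 17, 3, 5, 11, 1, 2, 7, 21, 8, 0, 22, 4, 20, 13, 16, 12, 18, 6]]

/-- Class 0. -/
def cls0 : Cls :=
  ⟨[340831, 16436384],
   .nil,
   1⟩

/-- Class 1. -/
def cls1 : Cls :=
  ⟨[28637, 16748578],
   (.node 0 (.node 0 (.node 0 (.node 0 (.node 1 (.node 0 (.node 2 .nil .nil) (.node 1 .nil .nil)) (.node 2 (.node 1 .nil .nil) .nil)) (.node 1 (.node 0 (.node 0 (.node 1 .nil .nil) .nil) (.node 1 (.node 0 .nil (.node 2 (.node 2 .nil .nil) .nil)) (.node 2 (.node 0 (.node 1 .nil .nil) (.node 1 .nil .nil)) .nil))) (.node 2 (.node 0 (.node 0 (.node 0 .nil .nil) (.node 1 (.node 0 .nil .nil) (.node 2 .nil .nil))) (.node 1 (.node 2 .nil .nil) (.node 2 (.node 1 (.node 1 .nil .nil) .nil) .nil))) .nil))) (.node 1 (.node 0 (.node 0 (.node 0 .nil (.node 2 .nil .nil)) (.node 1 (.node 0 .nil .nil) (.node 2 (.node 0 .nil (.node 1 .nil (.node 2 (.node 2 .nil .nil) .nil))) .nil))) (.node 1 (.node 0 .nil .nil)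 (.node 2 (.node 0 (.node 1 .nil (.node 2 .nil .nil)) (.node 1 (.node 0 .nil .nil) (.node 2 (.node 0 (.node 0 .nil (.node 1 .nil .nil)) .nil) .nil))) .nil))) (.node 2 (.node 0 (.node 0 (.node 0 (.node 2 .nil .nil) .nil) (.node 1 (.node 1 .nil .nil) (.node 2 .nil .nil))) (.node 1 (.node 1 (.node 0 .nil (.node 1 .nil .nil)) .nil) (.node 2 (.node 0 (.node 1 (.node 0 .nil .nil) .nil) (.node 1 (.node 2 .nil .nil) (.node 2 (.node 1 .nil .nil) .nil))) .nil))) .nil))) (.node 1 (.node 0 (.node 0 (.node 0 (.node 1 .nil (.node 2 (.node 0 .nil (.node 1 .nil .nil)) .nil)) (.node 1 (.node 0 .nil (.node 2 (.node 0 .nil .nil) .nil)) .nil)) (.node 2 (.node 0 (.node 0 (.node 0 .nil .nil) (.node 2 .nil .nil)) (.node 1 (.node 0 .nil (.node 1 .nil .nil)) (.node 2 (.node 1 .nil (.node 2 .nil .nil)) .nil))) .nil)) (.node 1 (.node 0 (.node 0 (.node 0 .nil (.node 2 (.node 2 .nil .nil) .nil)) (.node 1 (.node 1 (.node 1 .nil .nil) (.node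 2 (.node 2 .nil .nil) .nil)) (.node 2 (.node 0 .nil .nil) .nil))) (.node 1 (.node 0 (.node 0 (.node 2 .nil .nil) (.node 1 (.node 0 .nil .nil) (.node 2 .nil .nil))) (.node 2 (.node 0 .nil (.node 1 (.node 0 .nil .nil) (.node 2 (.node 1 .nil (.node 2 .nil .nil)) .nil))) .nil)) (.node 2 (.node 0 (.node 0 (.node 0 .nil (.node 2 .nil .nil)) (.node 1 .nil (.node 2 (.node 1 .nil .nil) .nil))) (.node 1 (.node 0 .nil (.node 1 .nil .nil)) (.node 2 (.node 1 .nil (.node 2 .nil .nil)) .nil))) .nil))) (.node 2 (.node 0 (.node 1 .nil .nil) (.node 1 (.node 0 (.node 0 (.node 0 .nil .nil) (.node 2 .nil .nil)) .nil) (.node 2 (.node 0 (.node 2 .nil .nil) (.node 1 .nil (.node 2 .nil .nil))) .nil))) .nil))) (.node 2 (.node 0 (.node 0 (.node 0 (.node 0 .nil .nil) (.node 1 (.node 2 .nil .nil) (.node 2 (.node 0 .nil (.node 2 (.node 2 .nil .nil) .nil)) .nil))) (.node 1 (.node 0 (.node 1 .nil .nil) (.node 2 (.node 0 .nil (.node 1 .nil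 .nil)) .nil)) (.node 2 (.node 1 (.node 0 (.node 2 .nil .nil) (.node 1 .nil (.node 2 .nil .nil))) (.node 2 (.node 2 .nil .nil) .nil)) .nil))) (.node 1 (.node 0 (.node 0 (.node 1 .nil .nil) (.node 2 (.node 0 .nil (.node 1 .nil .nil)) .nil)) (.node 2 (.node 0 (.node 0 .nil (.node 1 .nil (.node 2 .nil .nil))) (.node 1 (.node 0 .nil (.node 2 (.node 0 .nil (.node 2 .nil .nil)) .nil)) (.node 2 (.node 0 .nil .nil) .nil))) .nil)) (.node 2 (.node 0 (.node 0 (.node 1 .nil (.node 2 .nil .nil)) .nil) (.node 1 (.node 1 (.node 0 .nil (.node 1 .nil .nil)) (.node 2 (.node 1 .nil (.node 2 (.node 1 .nil (.node 2 .nil .nil)) .nil)) .nil)) (.node 2 (.node 0 (.node 2 .nil .nil) (.node 1 (.node 2 (.node 1 .nil .nil) .nil) (.node 2 (.node 1 .nil .nil) .nil))) .nil))) .nil))) .nil))) (.node 1 (.node 0 (.node 0 (.node 0 (.node 0 (.node 0 .nil (.node 1 .nil .nil)) (.node 1 (.node 0 .nil (.node 1 .nil (.node 2 .nil .nil))) (.node 2 (.node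 1 .nil (.node 2 (.node 2 .nil .nil) .nil)) .nil))) (.node 1 (.node 0 (.node 1 .nil (.node 2 .nil .nil)) (.node 1 (.node 2 (.node 0 .nil .nil) .nil) (.node 2 (.node 2 .nil .nil) .nil))) (.node 2 (.node 0 (.node 0 .nil (.node 1 .nil (.node 2 .nil .nil))) (.node 2 (.node 1 .nil .nil) .nil)) .nil))) (.node 1 (.node 0 (.node 0 (.node 0 .nil (.node 1 .nil (.node 2 .nil .nil))) (.node 1 (.node 2 (.node 2 .nil .nil) .nil) (.node 2 (.node 0 (.node 1 .nil .nil) (.node 1 .nil (.node 2 .nil .nil))) .nil))) (.node 1 (.node 0 .nil (.node 1 .nil .nil)) .nil)) (.node 2 (.node 0 (.node 0 (.node 0 .nil (.node 1 .nil .nil)) (.node 2 (.node 1 .nil (.node 2 .nil .nil)) .nil)) (.node 1 (.node 0 (.node 1 .nil .nil) (.node 1 (.node 2 .nil .nil) (.node 2 (.node 0 (.node 0 .nil .nil) .nil) .nil))) (.node 2 (.node 1 (.node 2 .nil .nil) (.node 2 (.node 0 .nil (.node 1 .nil (.node 2 (.node 1 .nil .nil) .nil))) .nil)) .nil))) .nil))) (.node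 1 (.node 0 (.node 0 (.node 0 (.node 1 .nil .nil) (.node 1 (.node 2 .nil .nil) (.node 2 (.node 1 .nil (.node 2 .nil .nil)) .nil))) (.node 2 (.node 0 .nil (.node 2 .nil .nil)) .nil)) (.node 1 (.node 0 (.node 1 (.node 0 .nil (.node 2 .nil .nil)) (.node 2 (.node 0 (.node 2 .nil .nil) .nil) .nil)) (.node 1 (.node 0 (.node 0 .nil (.node 2 .nil .nil)) (.node 1 (.node 0 .nil .nil) (.node 2 (.node 0 .nil .nil) .nil))) (.node 2 (.node 1 (.node 2 .nil .nil) (.node 2 .nil .nil)) .nil))) (.node 2 (.node 0 (.node 0 .nil (.node 1 (.node 2 .nil .nil) (.node 2 .nil .nil))) (.node 1 (.node 0 (.node 0 .nil .nil) (.node 1 (.node 2 .nil .nil) .nil)) (.node 2 (.node 0 .nil (.node 1 (.node 2 .nil .nil) .nil)) .nil))) .nil))) (.node 2 (.node 0 (.node 0 (.node 2 (.node 1 .nil (.node 2 .nil .nil)) .nil) (.node 1 (.node 0 (.node 2 .nil .nil) (.node 2 (.node 2 .nil .nil) .nil)) .nil)) (.node 1 (.node 0 (.node 1 (.node 0 .nil (.node 2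 .nil .nil)) (.node 2 .nil .nil)) (.node 2 (.node 2 (.node 1 (.node 1 .nil .nil) .nil) .nil) .nil)) (.node 2 (.node 0 (.node 0 (.node 0 .nil .nil) (.node 1 (.node 1 .nil (.node 2 .nil .nil)) (.node 2 .nil .nil))) (.node 1 (.node 0 (.node 0 .nil (.node 1 .nil .nil)) (.node 1 (.node 2 .nil .nil) .nil)) (.node 2 (.node 0 (.node 2 .nil .nil) (.node 2 (.node 1 .nil .nil) .nil)) .nil))) .nil))) .nil))) (.node 2 (.node 0 (.node 0 (.node 0 (.node 0 (.node 0 .nil (.node 1 .nil (.node 2 .nil .nil))) (.node 1 (.node 1 (.node 1 .nil .nil) .nil) .nil)) (.node 1 (.node 0 (.node 0 .nil .nil) .nil) (.node 2 .nil .nil))) (.node 1 (.node 0 (.node 0 (.node 0 .nil (.node 1 .nil .nil)) (.node 1 (.node 0 .nil (.node 1 .nil (.node 2 .nil .nil))) (.node 2 (.node 0 .nil (.node 2 .nil .nil)) .nil))) .nil) (.node 2 (.node 0 (.node 0 (.node 0 .nil (.node 2 .nil .nil)) .nil) (.node 2 (.node 1 (.node 2 .nil .nil) .nil) .nil)) .nil))) (.node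 1 (.node 0 (.node 0 (.node 0 (.node 0 .nil .nil) .nil) (.node 1 (.node 1 .nil (.node 2 (.node 0 .nil (.node 2 .nil .nil)) .nil)) (.node 2 (.node 0 (.node 2 .nil .nil) (.node 2 (.node 1 .nil .nil) .nil)) .nil))) (.node 1 (.node 0 (.node 0 .nil (.node 1 (.node 0 .nil .nil) (.node 2 (.node 1 .nil .nil) .nil))) (.node 1 (.node 1 .nil (.node 2 (.node 2 .nil .nil) .nil)) (.node 2 (.node 0 (.node 1 .nil .nil) (.node 2 (.node 0 .nil (.node 1 .nil .nil)) .nil)) .nil))) (.node 2 (.node 0 (.node 1 (.node 0 .nil (.node 2 .nil .nil)) (.node 2 .nil .nil)) (.node 1 (.node 0 .nil .nil) (.node 2 (.node 0 (.node 1 .nil .nil) (.node 2 (.node 1 .nil .nil) .nil)) .nil))) .nil))) (.node 2 (.node 0 (.node 0 (.node 1 .nil .nil) (.node 1 (.node 0 .nil (.node 2 (.node 0 .nil (.node 1 .nil .nil)) .nil)) (.node 2 (.node 0 (.node 2 .nil .nil) (.node 2 (.node 0 .nil (.node 2 .nil .nil)) .nil)) .nil))) (.node 1 (.node 0 .nil (.node 1 (.node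 2 .nil .nil) (.node 2 (.node 0 (.node 2 .nil .nil) .nil) .nil))) (.node 2 (.node 0 (.node 1 (.node 1 .nil .nil) .nil) (.node 1 (.node 0 .nil (.node 1 .nil (.node 2 (.node 2 .nil .nil) .nil))) (.node 2 (.node 0 .nil .nil) .nil))) .nil))) .nil))) .nil))),
   495⟩

/-- Class 2. -/
def cls2 : Cls :=
  ⟨[57274, 16719941],
   (.node 0 (.node 0 (.node 0 (.node 0 (.node 0 (.node 1 (.node 1 .nil .nil) (.node 2 (.node 0 .nil .nil) .nil)) (.node 1 (.node 0 (.node 2 .nil .nil) (.node 1 (.node 2 .nil .nil) (.node 2 (.node 1 (.node 1 .nil .nil) .nil) .nil))) (.node 2 (.node 0 (.node 1 (.node 0 .nil .nil) .nil) (.node 2 .nil .nil)) .nil))) (.node 1 (.node 0 (.node 0 .nil .nil) (.node 1 (.node 0 (.node 0 .nil (.node 2 .nil .nil)) (.node 1 .nil .nil)) (.node 2 (.node 0 (.node 0 .nil (.node 1 .nil .nil)) (.node 2 .nil .nil)) .nil))) (.node 2 (.node 0 (.node 0 (.node 1 .nil .nil) (.node 1 (.node 1 (.node 0 .nil .nil) .nil) (.node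 2 (.node 0 .nil (.node 1 .nil .nil)) .nil))) (.node 1 (.node 0 (.node 0 (.node 0 .nil .nil) (.node 2 .nil .nil)) (.node 2 .nil .nil)) (.node 2 (.node 0 .nil (.node 1 .nil (.node 2 (.node 2 .nil .nil) .nil))) .nil))) .nil))) (.node 1 (.node 0 (.node 0 (.node 0 (.node 0 (.node 1 .nil .nil) .nil) (.node 1 (.node 2 .nil .nil) (.node 2 (.node 1 .nil (.node 2 .nil .nil)) .nil))) (.node 1 (.node 0 (.node 2 .nil .nil) (.node 1 .nil (.node 2 (.node 2 (.node 0 .nil .nil) .nil) .nil))) (.node 2 (.node 1 .nil (.node 2 (.node 0 .nil .nil) .nil)) .nil))) (.node 1 (.node 0 (.node 0 (.node 1 .nil .nil) (.node 1 .nil .nil)) (.node 1 (.node 0 (.node 0 .nil .nil) (.node 1 (.node 1 .nil .nil) (.node 2 (.node 1 (.node 2 .nil .nil) (.node 2 .nil .nil)) .nil))) (.node 2 (.node 0 .nil (.node 1 (.node 0 .nil .nil) (.node 2 .nil .nil))) .nil))) (.node 2 (.node 0 (.node 2 .nil .nil) (.node 1 (.node 1 (.node 1 .nil .nil) (.node 2 .nil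 .nil)) (.node 2 .nil .nil))) .nil))) (.node 2 (.node 0 (.node 1 (.node 0 .nil (.node 1 (.node 2 (.node 1 .nil .nil) .nil) (.node 2 (.node 1 .nil .nil) .nil))) (.node 2 (.node 1 (.node 1 .nil .nil) (.node 2 (.node 1 .nil (.node 2 .nil .nil)) .nil)) .nil)) (.node 1 (.node 0 (.node 0 .nil (.node 1 (.node 1 .nil .nil) (.node 2 .nil .nil))) (.node 1 (.node 0 .nil .nil) (.node 2 (.node 0 (.node 2 (.node 2 .nil .nil) .nil) (.node 1 .nil (.node 2 (.node 0 .nil .nil) .nil))) .nil))) (.node 2 (.node 0 (.node 0 (.node 1 (.node 1 .nil .nil) (.node 2 .nil .nil)) (.node 1 (.node 0 .nil .nil) .nil)) (.node 1 (.node 1 .nil (.node 2 (.node 0 .nil (.node 1 (.node 1 .nil .nil) .nil)) .nil)) (.node 2 (.node 0 (.node 0 .nil (.node 1 .nil (.node 2 .nil .nil))) (.node 1 (.node 0 .nil (.node 1 .nil (.node 2 .nil .nil))) (.node 2 (.node 0 .nil .nil) .nil))) .nil))) .nil))) .nil))) (.node 1 (.node 0 (.node 0 (.node 0 (.node 0 (.node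 1 .nil .nil) (.node 1 (.node 0 .nil (.node 2 .nil .nil)) (.node 2 .nil .nil))) (.node 1 (.node 0 .nil .nil) (.node 2 (.node 0 (.node 0 .nil .nil) (.node 2 (.node 0 .nil .nil) .nil)) .nil))) (.node 1 (.node 0 (.node 2 (.node 1 .nil (.node 2 .nil .nil)) .nil) (.node 1 (.node 2 (.node 0 .nil .nil) .nil) .nil)) (.node 2 (.node 0 (.node 0 (.node 1 .nil .nil) (.node 1 .nil (.node 2 .nil .nil))) (.node 1 (.node 2 (.node 2 .nil .nil) .nil) (.node 2 (.node 2 .nil .nil) .nil))) .nil))) (.node 1 (.node 0 (.node 0 (.node 0 .nil (.node 2 .nil .nil)) (.node 1 (.node 0 (.node 2 .nil .nil) (.node 1 (.node 2 .nil .nil) (.node 2 (.node 2 .nil .nil) .nil))) (.node 2 (.node 2 (.node 2 .nil .nil) .nil) .nil))) (.node 2 (.node 0 (.node 1 (.node 1 .nil .nil) .nil) (.node 1 (.node 0 (.node 0 .nil (.node 1 .nil (.node 2 .nil .nil))) (.node 1 (.node 0 .nil (.node 2 .nil .nil)) .nil)) (.node 2 (.node 0 (.node 0 .nil (.node 1 .nil .nil))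 (.node 1 (.node 0 .nil .nil) .nil)) .nil))) .nil)) (.node 2 (.node 0 (.node 0 (.node 1 (.node 1 (.node 1 .nil .nil) (.node 2 .nil .nil)) (.node 2 (.node 2 .nil .nil) .nil)) (.node 1 (.node 0 (.node 0 .nil (.node 2 .nil .nil)) (.node 1 (.node 0 .nil .nil) (.node 2 .nil .nil))) (.node 2 (.node 2 (.node 0 .nil (.node 1 .nil (.node 2 .nil .nil))) .nil) .nil))) (.node 1 (.node 1 (.node 1 (.node 1 .nil (.node 2 .nil .nil)) (.node 2 (.node 0 .nil .nil) .nil)) (.node 2 (.node 0 (.node 0 .nil (.node 2 .nil .nil)) (.node 1 (.node 0 .nil .nil) .nil)) .nil)) (.node 2 (.node 0 (.node 1 .nil .nil) (.node 2 .nil .nil)) .nil))) .nil))) (.node 2 (.node 0 (.node 0 (.node 1 (.node 0 (.node 0 .nil (.node 1 .nil .nil)) .nil) (.node 2 (.node 0 (.node 0 .nil (.node 2 .nil .nil)) .nil) .nil)) (.node 1 (.node 0 (.node 2 (.node 1 .nil (.node 2 .nil .nil)) .nil) (.node 1 .nil (.node 2 (.node 2 (.node 2 .nil .nil) .nil) .nil))) (.node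 2 (.node 0 (.node 0 (.node 2 .nil .nil) (.node 1 (.node 1 .nil .nil) (.node 2 (.node 2 .nil .nil) .nil))) (.node 1 (.node 2 .nil .nil) .nil)) .nil))) (.node 1 (.node 0 (.node 0 (.node 0 .nil (.node 1 .nil (.node 2 (.node 0 .nil .nil) .nil))) (.node 1 (.node 0 (.node 0 .nil (.node 2 .nil .nil)) (.node 2 (.node 2 .nil .nil) .nil)) .nil)) (.node 1 (.node 0 (.node 0 .nil .nil) (.node 2 (.node 2 .nil .nil) .nil)) (.node 2 (.node 1 (.node 0 (.node 0 .nil (.node 2 .nil .nil)) (.node 1 .nil .nil)) .nil) .nil))) (.node 2 (.node 0 (.node 0 (.node 0 (.node 0 .nil .nil) (.node 1 .nil (.node 2 (.node 1 .nil .nil) .nil))) (.node 1 (.node 0 .nil (.node 2 .nil .nil)) (.node 2 (.node 0 .nil (.node 1 (.node 1 (.node 2 .nil .nil) .nil) (.node 2 (.node 1 .nil .nil) .nil))) .nil))) (.node 1 (.node 0 (.node 0 (.node 2 .nil .nil) (.node 2 .nil .nil)) (.node 1 (.node 1 .nil .nil) (.node 2 (.node 0 (.node 0 .nil .nil) (.node 2 (.node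 1 (.node 2 .nil .nil) .nil) .nil)) .nil))) (.node 2 (.node 0 (.node 0 (.node 0 .nil (.node 1 .nil (.node 2 .nil .nil))) (.node 1 (.node 2 .nil .nil) .nil)) (.node 1 (.node 0 .nil (.node 1 (.node 0 .nil .nil) (.node 2 .nil .nil))) (.node 2 (.node 0 .nil (.node 2 .nil .nil)) .nil))) .nil))) .nil))) .nil))) (.node 1 (.node 1 (.node 0 (.node 0 (.node 0 (.node 0 (.node 0 .nil (.node 1 .nil (.node 2 .nil .nil))) (.node 1 (.node 0 .nil .nil) .nil)) (.node 1 (.node 1 (.node 1 .nil (.node 2 .nil .nil)) (.node 2 .nil .nil)) (.node 2 (.node 0 (.node 0 (.node 0 .nil (.node 2 .nil .nil)) (.node 1 .nil (.node 2 .nil .nil))) (.node 2 (.node 2 .nil .nil) .nil)) .nil))) (.node 1 (.node 2 (.node 2 (.node 1 .nil .nil) .nil) .nil) (.node 2 (.node 0 (.node 0 (.node 0 .nil .nil) .nil) (.node 1 (.node 0 (.node 0 .nil .nil) .nil) (.node 2 (.node 2 .nil .nil) .nil))) .nil))) (.node 1 (.node 0 (.node 0 (.node 1 .nil .nil) (.node 1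 (.node 1 (.node 0 .nil .nil) .nil) (.node 2 (.node 1 .nil (.node 2 .nil .nil)) .nil))) (.node 1 (.node 0 (.node 0 (.node 2 .nil .nil) (.node 1 (.node 0 .nil (.node 1 .nil (.node 2 .nil .nil))) (.node 2 (.node 0 .nil .nil) .nil))) (.node 1 (.node 0 .nil .nil) (.node 2 (.node 0 .nil (.node 1 .nil .nil)) .nil))) (.node 2 (.node 0 (.node 1 (.node 1 .nil .nil) .nil) (.node 1 (.node 0 (.node 1 .nil .nil) (.node 1 (.node 0 .nil .nil) .nil)) (.node 2 (.node 0 (.node 0 .nil .nil) (.node 1 (.node 0 .nil (.node 1 .nil .nil)) (.node 2 (.node 1 .nil (.node 2 .nil .nil)) .nil))) .nil))) .nil))) (.node 2 (.node 0 (.node 0 (.node 0 .nil (.node 1 .nil (.node 2 (.node 1 .nil .nil) .nil))) (.node 1 (.node 2 (.node 1 .nil .nil) .nil) (.node 2 (.node 2 (.node 0 .nil .nil) .nil) .nil))) (.node 1 (.node 0 (.node 0 (.node 0 .nil (.node 1 .nil .nil)) (.node 2 .nil .nil)) (.node 1 .nil (.node 2 (.node 1 (.node 1 .nil .nil) (.node 2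 (.node 2 .nil .nil) .nil)) .nil))) (.node 2 (.node 1 (.node 0 .nil (.node 1 .nil .nil)) (.node 2 (.node 2 .nil .nil) .nil)) .nil))) .nil))) (.node 2 (.node 0 (.node 0 (.node 0 (.node 0 .nil (.node 1 (.node 1 .nil (.node 2 .nil .nil)) .nil)) (.node 2 (.node 1 .nil .nil) .nil)) (.node 2 (.node 0 (.node 0 .nil (.node 2 (.node 0 .nil (.node 2 .nil .nil)) .nil)) (.node 1 (.node 0 (.node 2 .nil .nil) (.node 2 (.node 1 .nil .nil) .nil)) (.node 2 (.node 0 (.node 1 (.node 2 .nil .nil) (.node 2 .nil .nil)) (.node 1 (.node 2 .nil .nil) .nil)) .nil))) .nil)) (.node 1 (.node 1 (.node 0 (.node 0 .nil (.node 2 .nil .nil)) (.node 1 (.node 1 (.node 1 .nil .nil) (.node 2 (.node 0 .nil .nil) .nil)) (.node 2 (.node 0 (.node 2 .nil .nil) (.node 1 (.node 0 .nil (.node 1 .nil (.node 2 .nil .nil))) .nil)) .nil))) (.node 2 (.node 1 (.node 1 .nil (.node 2 (.node 0 .nil (.node 1 .nil .nil)) .nil)) (.node 2 (.node 0 .nil (.node 1 (.node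 0 .nil (.node 2 .nil .nil)) .nil)) .nil)) .nil)) (.node 2 (.node 0 (.node 1 (.node 2 (.node 1 .nil .nil) .nil) (.node 2 (.node 0 .nil .nil) .nil)) (.node 1 (.node 1 (.node 0 .nil .nil) (.node 2 (.node 1 .nil .nil) .nil)) .nil)) .nil))) .nil)) (.node 2 (.node 0 (.node 0 (.node 0 (.node 0 (.node 0 (.node 1 .nil .nil) (.node 1 (.node 2 .nil .nil) (.node 2 .nil .nil))) (.node 1 (.node 1 .nil (.node 2 (.node 1 .nil .nil) .nil)) (.node 2 (.node 0 (.node 2 .nil .nil) .nil) .nil))) (.node 1 (.node 0 (.node 0 (.node 0 .nil .nil) (.node 2 (.node 2 .nil .nil) .nil)) (.node 1 (.node 2 .nil .nil) (.node 2 (.node 1 (.node 1 .nil .nil) (.node 2 .nil .nil)) .nil))) (.node 2 (.node 0 (.node 2 (.node 1 .nil .nil) .nil) (.node 1 (.node 2 (.node 1 .nil .nil) .nil) (.node 2 (.node 0 .nil (.node 2 (.node 1 .nil .nil) .nil)) .nil))) .nil))) (.node 1 (.node 0 .nil (.node 1 (.node 0 (.node 1 (.node 0 .nil .nil) .nil) (.node 1 (.node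 0 .nil (.node 1 .nil (.node 2 .nil .nil))) (.node 2 .nil .nil))) (.node 2 (.node 0 (.node 0 .nil (.node 2 .nil .nil)) (.node 2 (.node 0 (.node 0 .nil (.node 2 .nil .nil)) (.node 2 (.node 0 .nil .nil) .nil)) .nil)) .nil))) (.node 2 (.node 0 (.node 0 .nil (.node 1 (.node 0 .nil (.node 2 .nil .nil)) (.node 2 (.node 0 .nil (.node 1 (.node 0 .nil .nil) (.node 2 .nil .nil))) .nil))) (.node 1 (.node 0 (.node 0 (.node 0 .nil .nil) (.node 1 .nil .nil)) (.node 1 (.node 1 .nil .nil) (.node 2 (.node 0 .nil (.node 2 .nil .nil)) .nil))) (.node 2 (.node 0 (.node 0 .nil (.node 1 .nil .nil)) (.node 2 (.node 1 .nil (.node 2 .nil .nil)) .nil)) .nil))) .nil))) (.node 1 (.node 0 (.node 0 (.node 0 (.node 0 .nil (.node 1 (.node 0 .nil .nil) (.node 2 .nil .nil))) (.node 1 (.node 0 (.node 1 .nil .nil) (.node 1 .nil (.node 2 (.node 2 .nil .nil) .nil))) (.node 2 (.node 1 (.node 2 .nil .nil) (.node 2 (.node 0 .nil (.node 2 .nil .nil))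 .nil)) .nil))) (.node 1 (.node 0 .nil (.node 1 (.node 0 .nil .nil) (.node 2 (.node 1 .nil (.node 2 .nil .nil)) .nil))) (.node 2 (.node 0 (.node 0 .nil (.node 2 (.node 0 .nil .nil) .nil)) (.node 1 (.node 0 .nil .nil) (.node 2 (.node 0 (.node 0 .nil .nil) (.node 1 (.node 0 .nil (.node 2 .nil .nil)) .nil)) .nil))) .nil))) (.node 1 (.node 0 (.node 0 (.node 1 .nil (.node 2 .nil .nil)) (.node 2 (.node 0 (.node 1 .nil .nil) .nil) .nil)) (.node 1 (.node 1 (.node 2 .nil .nil) (.node 2 (.node 0 .nil (.node 2 .nil .nil)) .nil)) (.node 2 (.node 0 (.node 2 .nil .nil) (.node 1 (.node 1 .nil .nil) (.node 2 (.node 0 .nil (.node 1 (.node 1 .nil .nil) (.node 2 .nil .nil))) .nil))) .nil))) (.node 2 (.node 0 (.node 0 (.node 0 .nil .nil) (.node 1 (.node 1 .nil (.node 2 .nil .nil)) (.node 2 .nil .nil))) (.node 1 (.node 0 (.node 0 .nil .nil) (.node 1 (.node 0 (.node 2 .nil .nil) (.node 1 .nil .nil)) (.node 2 (.node 0 (.node 1 .nil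 .nil) (.node 2 .nil .nil)) .nil))) (.node 2 (.node 2 (.node 1 .nil .nil) .nil) .nil))) .nil))) (.node 2 (.node 0 (.node 0 (.node 1 (.node 0 .nil (.node 1 .nil .nil)) .nil) (.node 1 (.node 0 (.node 0 .nil (.node 2 .nil .nil)) (.node 1 (.node 1 .nil (.node 2 .nil .nil)) (.node 2 .nil .nil))) (.node 2 (.node 0 (.node 0 (.node 0 .nil .nil) .nil) (.node 2 (.node 0 .nil (.node 2 (.node 2 .nil .nil) .nil)) .nil)) .nil))) (.node 1 (.node 0 (.node 0 (.node 1 .nil .nil) (.node 1 (.node 0 .nil .nil) .nil)) (.node 1 (.node 0 (.node 0 (.node 0 .nil (.node 1 .nil .nil)) (.node 1 (.node 1 .nil (.node 2 .nil .nil)) .nil)) .nil) (.node 2 (.node 0 (.node 2 .nil .nil) (.node 1 (.node 2 .nil .nil) .nil)) .nil))) (.node 2 (.node 0 (.node 0 (.node 2 (.node 0 .nil .nil) .nil) (.node 1 (.node 0 (.node 0 .nil .nil) .nil) (.node 2 (.node 1 (.node 0 .nil .nil) .nil) .nil))) (.node 1 (.node 0 (.node 0 .nil (.node 1 .nil .nil)) (.node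 1 (.node 0 (.node 1 .nil .nil) (.node 2 (.node 2 .nil .nil) .nil)) (.node 2 (.node 1 .nil .nil) .nil))) (.node 2 (.node 0 .nil (.node 1 (.node 0 .nil (.node 1 .nil .nil)) .nil)) .nil))) .nil))) .nil))) .nil))),
   792⟩

/-- All classes. -/
def classes : List Cls := [cls0, cls1, cls2]

/-- Value and size of each class. -/
def table : List (ℕ × ℕ) := [(41472, 1), (8704, 495), (5184, 792)]

theorem cert_ok : suborbOk gens base classes 16777216 = true := by decide +kernel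

theorem table_ok : classes.map (fun c => (crossL base c.root, c.size)) = table := by decide +kernel

end CfsgLib.Golay.Suborb.DodDod
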