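/-
Suborbit certificate DodSex.
-/
import Cfsg.Agent.Golay.Suborb

set_option autoImplicit false
set_option maxRecDepth 20000

namespace CfsgLib.Golay.Suborb.DodSex

/-- Masks of the base family. -/
def base : List ℕ := [340831, 16436384]

/-- Elements of the group fixing the base family. -/
def gens : List (List ℕ) :=
  [[14, 19, 23, 7, 17, 6, 21, 13, 11, 20, 2, 4, 22, 15, 12, 18, 5, 9, 10, 0, 1, 3, 8, 16],
   [9, 13, 0, 18, 8, 5, 2, 19, 1, 6, 11, 14, 3, 16, 7, 10, 12, 20, 4, 22, 17, 21, 23, 15],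
   [4, 3, 13, 18, 1, 15, 2, 10, 8, 9, 19, 7, 16, 12, 11, 21, 6, 17, 0, 14, 5, 23, 22, 20]]

/-- Class 0. -/
def cls0 : Cls :=
  ⟨[163, 17984, 1116164, 2494464, 4726792, 8421648],
   (.node 0 (.node 0 (.node 0 (.node 0 (.node 0 (.node 1 (.node 0 .nil (.node 1 .nil .nil)) (.node 2 .nil .nil)) (.node 2 (.node 0 .nil (.node 2 .nil .nil)) .nil)) (.node 1 (.node 0 (.node 1 .nil .nil) (.node 1 (.node 0 (.node 1 .nil .nil) .nil) (.node 2 (.node 0 .nil (.node 1 .nil (.node 2 .nil .nil))) .nil))) (.node 2 (.node 1 (.node 0 .nil (.node 2 .nil .nil)) (.node 2 (.node 0 .nil (.node 1 (.node 1 .nil .nil) .nil)) .nil)) .nil))) (.node 1 (.node 0 (.node 0 .nil (.node 2 (.node 2 .nil .nil) .nil)) (.node 1 (.node 0 (.node 0 .nil (.node 1 .nil (.node 2 .nil .nil))) (.node 1 (.node 1 .nil .nil) (.node 2 (.node 0 .nil (.node 2 .nil .nil)) .nil))) (.node 2 (.node 0 (.node 1 .nil .nil) (.node 1 (.node 1 .nil (.node 2 (.node 1 .nil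 .nil) .nil)) (.node 2 (.node 0 .nil (.node 1 .nil (.node 2 .nil .nil))) .nil))) .nil))) (.node 2 (.node 0 (.node 0 .nil (.node 1 (.node 0 .nil (.node 2 (.node 2 .nil .nil) .nil)) .nil)) (.node 2 (.node 1 .nil (.node 2 (.node 0 .nil .nil) .nil)) .nil)) .nil))) (.node 1 (.node 0 (.node 0 (.node 1 (.node 2 .nil .nil) (.node 2 (.node 0 .nil (.node 2 (.node 1 .nil .nil) .nil)) .nil)) (.node 1 (.node 0 (.node 0 (.node 1 .nil .nil) .nil) (.node 1 .nil .nil)) (.node 2 (.node 0 (.node 1 .nil .nil) (.node 1 (.node 0 (.node 1 .nil (.node 2 .nil .nil)) (.node 1 (.node 2 .nil .nil) .nil)) (.node 2 (.node 0 .nil (.node 1 .nil (.node 2 .nil .nil))) .nil))) .nil))) (.node 1 (.node 0 (.node 0 (.node 0 (.node 0 .nil .nil) (.node 1 (.node 2 .nil .nil) .nil)) (.node 1 (.node 2 (.node 0 .nil .nil) .nil) (.node 2 (.node 1 (.node 1 .nil .nil) (.node 2 .nil .nil)) .nil))) (.node 1 (.node 1 (.node 1 .nil .nil) (.node 2 (.node 2 .nil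 .nil) .nil)) (.node 2 (.node 0 (.node 1 (.node 1 .nil .nil) .nil) (.node 1 .nil (.node 2 (.node 1 .nil .nil) .nil))) .nil))) (.node 2 (.node 0 (.node 0 .nil (.node 1 (.node 2 (.node 0 .nil .nil) .nil) (.node 2 (.node 0 (.node 0 .nil .nil) .nil) .nil))) (.node 1 (.node 1 (.node 1 .nil (.node 2 .nil .nil)) (.node 2 .nil .nil)) (.node 2 (.node 0 (.node 0 .nil (.node 1 .nil (.node 2 .nil .nil))) (.node 2 (.node 1 .nil .nil) .nil)) .nil))) .nil))) (.node 2 (.node 0 (.node 0 (.node 0 (.node 2 .nil .nil) (.node 2 (.node 0 .nil (.node 2 .nil .nil)) .nil)) (.node 1 (.node 0 .nil (.node 1 .nil (.node 2 (.node 1 .nil .nil) .nil))) (.node 2 (.node 0 (.node 2 .nil .nil) (.node 1 (.node 1 .nil .nil) (.node 2 (.node 0 .nil (.node 2 .nil .nil)) .nil))) .nil))) (.node 1 (.node 0 (.node 0 (.node 0 .nil .nil) (.node 1 (.node 1 .nil (.node 2 .nil .nil)) .nil)) (.node 1 (.node 0 (.node 2 .nil .nil) (.node 2 (.node 2 .nil .nil)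 .nil)) (.node 2 (.node 1 (.node 1 (.node 0 .nil .nil) .nil) (.node 2 (.node 1 .nil .nil) .nil)) .nil))) (.node 2 (.node 1 (.node 1 (.node 2 .nil .nil) (.node 2 .nil .nil)) (.node 2 (.node 1 (.node 2 .nil .nil) (.node 2 (.node 0 .nil .nil) .nil)) .nil)) .nil))) .nil))) (.node 1 (.node 0 (.node 0 (.node 0 (.node 0 (.node 1 .nil .nil) (.node 2 .nil .nil)) (.node 1 (.node 1 (.node 1 .nil .nil) (.node 2 (.node 0 .nil .nil) .nil)) (.node 2 (.node 1 .nil (.node 2 (.node 2 .nil .nil) .nil)) .nil))) (.node 1 (.node 0 (.node 0 .nil (.node 1 (.node 2 .nil .nil) (.node 2 (.node 2 (.node 2 .nil .nil) .nil) .nil))) (.node 1 (.node 0 (.node 0 .nil (.node 1 .nil .nil)) (.node 1 (.node 0 .nil .nil) (.node 2 (.node 0 .nil (.node 2 .nil .nil)) .nil))) (.node 2 (.node 0 (.node 0 .nil (.node 1 .nil (.node 2 .nil .nil))) (.node 1 .nil (.node 2 (.node 0 .nil (.node 1 .nil .nil)) .nil))) .nil))) (.node 2 (.node 0 (.node 0 (.node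 1 .nil .nil) (.node 1 (.node 0 .nil .nil) (.node 2 (.node 0 .nil .nil) .nil))) (.node 1 (.node 1 (.node 2 .nil .nil) .nil) (.node 2 (.node 1 .nil (.node 2 (.node 1 .nil .nil) .nil)) .nil))) .nil))) (.node 1 (.node 0 (.node 0 (.node 0 (.node 0 .nil .nil) (.node 2 .nil .nil)) (.node 1 (.node 0 .nil (.node 2 .nil .nil)) .nil)) (.node 1 (.node 0 (.node 1 (.node 1 .nil .nil) (.node 2 .nil .nil)) (.node 1 (.node 0 (.node 2 .nil .nil) (.node 2 (.node 2 .nil .nil) .nil)) (.node 2 (.node 1 .nil .nil) .nil))) (.node 2 (.node 0 (.node 0 (.node 1 .nil .nil) (.node 1 (.node 2 .nil .nil) (.node 2 .nil .nil))) (.node 1 (.node 1 .nil (.node 2 .nil .nil)) (.node 2 (.node 1 .nil .nil) .nil))) .nil))) (.node 2 (.node 0 (.node 0 (.node 2 (.node 1 .nil .nil) .nil) (.node 1 (.node 0 .nil (.node 2 (.node 2 .nil .nil) .nil)) (.node 2 (.node 0 (.node 1 .nil (.node 2 .nil .nil)) .nil) .nil))) (.node 1 (.node 0 (.node 2 .nil .nil)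 (.node 2 (.node 1 (.node 1 .nil .nil) (.node 2 .nil .nil)) .nil)) (.node 2 (.node 0 (.node 1 .nil .nil) (.node 1 (.node 1 .nil .nil) .nil)) .nil))) .nil))) (.node 2 (.node 0 (.node 0 (.node 0 (.node 2 .nil .nil) (.node 2 (.node 0 (.node 1 .nil .nil) (.node 1 .nil .nil)) .nil)) (.node 1 (.node 0 (.node 0 (.node 0 .nil (.node 1 .nil .nil)) (.node 1 (.node 2 .nil .nil) .nil)) (.node 1 (.node 0 (.node 1 .nil .nil) .nil) (.node 2 (.node 0 (.node 0 .nil .nil) (.node 1 (.node 0 .nil .nil) (.node 2 .nil .nil))) .nil))) (.node 2 (.node 0 (.node 1 .nil (.node 2 .nil .nil)) (.node 1 .nil (.node 2 .nil .nil))) .nil))) (.node 1 (.node 0 (.node 0 (.node 0 .nil (.node 1 .nil (.node 2 (.node 2 (.node 1 .nil .nil) .nil) .nil))) (.node 1 (.node 0 (.node 1 .nil (.node 2 .nil .nil)) (.node 1 (.node 1 .nil .nil) (.node 2 .nil .nil))) (.node 2 (.node 0 (.node 2 .nil .nil) (.node 1 .nil (.node 2 (.node 2 .nil .nil) .nil))) .nil)))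 (.node 1 (.node 1 (.node 0 .nil .nil) (.node 2 (.node 1 (.node 2 .nil .nil) .nil) .nil)) (.node 2 (.node 0 (.node 0 (.node 1 .nil .nil) .nil) (.node 1 (.node 0 .nil (.node 1 .nil (.node 2 .nil .nil))) (.node 2 (.node 0 (.node 0 .nil .nil) (.node 1 .nil (.node 2 (.node 0 .nil .nil) .nil))) .nil))) .nil))) (.node 2 (.node 0 (.node 0 (.node 0 .nil (.node 2 .nil .nil)) (.node 1 (.node 0 .nil (.node 1 .nil .nil)) (.node 2 (.node 2 (.node 2 .nil .nil) .nil) .nil))) (.node 1 (.node 0 .nil .nil) (.node 2 (.node 1 (.node 0 (.node 0 .nil .nil) (.node 1 .nil .nil)) .nil) .nil))) .nil))) .nil))),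
   396⟩

/-- Class 1. -/
def cls1 : Cls :=
  ⟨[15, 5264, 622848, 3416064, 4196928, 8536096],
   (.node 0 (.node 0 (.node 0 (.node 0 (.node 1 (.node 0 .nil .nil) .nil) (.node 1 (.node 0 (.node 1 (.node 0 .nil .nil) (.node 2 .nil .nil)) (.node 1 (.node 1 (.node 1 .nil (.node 2 .nil .nil)) .nil) (.node 2 (.node 0 (.node 0 .nil (.node 1 .nil .nil)) (.node 1 .nil (.node 2 (.node 1 .nil (.node 2 .nil .nil)) .nil))) .nil))) (.node 2 (.node 0 (.node 1 (.node 0 (.node 1 .nil .nil) (.node 1 .nil (.node 2 .nil .nil))) .nil) (.node 1 (.node 1 .nil (.node 2 (.node 0 .nil .nil) .nil)) .nil)) .nil))) (.node 1 (.node 0 (.node 0 (.node 1 .nil .nil) (.node 1 (.node 0 (.node 1 .nil .nil) (.node 1 (.node 1 .nil .nil) (.node 2 .nil .nil))) (.node 2 (.node 0 .nil (.node 1 (.node 1 .nil (.node 2 .nil .nil)) .nil)) .nil))) (.node 1 (.node 0 (.node 0 .nil (.node 1 .nil .nil)) (.node 1 (.node 0 (.node 0 .nil (.node 1 .nil .nil)) (.node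 1 .nil (.node 2 .nil .nil))) (.node 2 (.node 0 (.node 0 .nil .nil) .nil) .nil))) (.node 2 (.node 0 (.node 0 (.node 2 .nil .nil) (.node 1 .nil (.node 2 .nil .nil))) (.node 1 (.node 0 (.node 2 .nil .nil) (.node 1 (.node 2 .nil .nil) .nil)) .nil)) .nil))) (.node 2 (.node 0 (.node 2 .nil .nil) (.node 1 (.node 1 (.node 0 (.node 1 (.node 1 .nil .nil) .nil) (.node 2 (.node 0 .nil (.node 1 .nil .nil)) .nil)) (.node 2 (.node 1 .nil .nil) .nil)) (.node 2 (.node 0 (.node 1 .nil (.node 2 .nil .nil)) (.node 1 (.node 2 .nil .nil) (.node 2 .nil .nil))) .nil))) .nil))) (.node 1 (.node 0 (.node 0 (.node 0 (.node 0 (.node 2 .nil .nil) (.node 1 .nil (.node 2 .nil .nil))) (.node 1 (.node 1 (.node 1 .nil .nil) .nil) .nil)) (.node 2 (.node 1 (.node 0 .nil (.node 2 .nil .nil)) (.node 2 (.node 1 .nil .nil) .nil)) .nil)) (.node 1 (.node 0 (.node 0 (.node 2 .nil .nil) (.node 1 (.node 2 (.node 0 .nil (.node 2 .nil .nil)) .nil) .nil))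 (.node 1 (.node 1 (.node 0 .nil (.node 1 .nil (.node 2 .nil .nil))) (.node 2 (.node 1 .nil (.node 2 (.node 0 .nil .nil) .nil)) .nil)) (.node 2 (.node 0 (.node 1 .nil .nil) (.node 1 (.node 0 .nil (.node 2 .nil .nil)) (.node 2 (.node 0 (.node 0 .nil .nil) (.node 1 .nil (.node 2 .nil .nil))) .nil))) .nil))) (.node 2 (.node 1 (.node 0 (.node 0 .nil (.node 1 .nil (.node 2 (.node 1 .nil .nil) .nil))) (.node 1 (.node 0 (.node 2 .nil .nil) .nil) (.node 2 (.node 1 .nil .nil) .nil))) (.node 2 (.node 0 .nil (.node 1 (.node 1 .nil .nil) (.node 2 (.node 2 .nil .nil) .nil))) .nil)) .nil))) (.node 2 (.node 0 (.node 0 (.node 0 (.node 1 (.node 0 .nil .nil) .nil) (.node 1 (.node 0 .nil .nil) .nil)) (.node 1 (.node 0 (.node 0 .nil (.node 2 .nil .nil)) (.node 2 .nil .nil)) (.node 2 (.node 0 (.node 0 .nil (.node 2 .nil .nil)) (.node 1 (.node 1 .nil (.node 2 .nil .nil)) .nil)) .nil))) (.node 1 (.node 0 (.node 0 (.node 0 (.node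 1 .nil .nil) (.node 1 (.node 0 .nil .nil) .nil)) (.node 1 (.node 0 .nil .nil) (.node 2 (.node 1 (.node 1 .nil .nil) .nil) .nil))) (.node 1 (.node 0 (.node 0 (.node 0 .nil (.node 1 .nil .nil)) .nil) (.node 1 (.node 2 .nil .nil) (.node 2 .nil .nil))) .nil)) (.node 2 (.node 0 (.node 0 (.node 0 .nil (.node 2 .nil .nil)) (.node 1 .nil .nil)) (.node 1 (.node 0 (.node 0 .nil (.node 1 .nil (.node 2 .nil .nil))) (.node 1 (.node 2 (.node 0 .nil .nil) .nil) (.node 2 (.node 2 .nil .nil) .nil))) (.node 2 (.node 1 .nil (.node 2 .nil .nil)) .nil))) .nil))) .nil))) (.node 1 (.node 0 (.node 0 (.node 1 (.node 1 (.node 2 .nil .nil) (.node 2 (.node 0 .nil (.node 1 .nil .nil)) .nil)) (.node 2 (.node 0 (.node 0 .nil (.node 2 (.node 1 .nil .nil) .nil)) (.node 1 (.node 0 .nil .nil) (.node 2 (.node 2 .nil .nil) .nil))) .nil)) (.node 1 (.node 0 (.node 1 (.node 2 .nil .nil) (.node 2 (.node 0 .nil (.node 1 .nil .nil)) .nil)) (.node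 1 (.node 1 (.node 0 (.node 0 .nil .nil) (.node 1 (.node 1 .nil (.node 2 .nil .nil)) .nil)) (.node 2 .nil .nil)) (.node 2 (.node 0 .nil (.node 1 (.node 0 .nil (.node 1 .nil .nil)) (.node 2 (.node 2 .nil .nil) .nil))) .nil))) (.node 2 (.node 0 (.node 0 (.node 2 .nil .nil) (.node 2 (.node 0 .nil (.node 1 .nil .nil)) .nil)) (.node 1 (.node 0 (.node 1 .nil (.node 2 .nil .nil)) (.node 1 .nil .nil)) (.node 2 (.node 1 (.node 1 .nil (.node 2 (.node 2 .nil .nil) .nil)) (.node 2 (.node 2 .nil .nil) .nil)) .nil))) .nil))) (.node 1 (.node 0 (.node 0 (.node 0 (.node 1 (.node 1 .nil .nil) .nil) (.node 1 (.node 0 .nil (.node 1 .nil .nil)) (.node 2 .nil .nil))) .nil) (.node 1 (.node 0 (.node 0 (.node 0 .nil (.node 1 .nil (.node 2 .nil .nil))) (.node 1 (.node 0 .nil (.node 2 .nil .nil)) (.node 2 (.node 0 .nil .nil) .nil))) (.node 2 (.node 0 (.node 1 (.node 1 .nil .nil) .nil) (.node 1 (.node 2 .nil .nil) .nil)) .nil)) (.node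 2 (.node 0 (.node 0 (.node 2 (.node 0 .nil .nil) .nil) (.node 1 .nil (.node 2 (.node 0 .nil (.node 2 (.node 1 .nil .nil) .nil)) .nil))) (.node 1 (.node 1 (.node 2 .nil .nil) (.node 2 (.node 1 .nil .nil) .nil)) (.node 2 (.node 0 .nil (.node 1 (.node 0 .nil (.node 1 .nil .nil)) (.node 2 .nil .nil))) .nil))) .nil))) (.node 2 (.node 0 (.node 0 (.node 1 (.node 2 .nil .nil) (.node 2 (.node 2 .nil .nil) .nil)) (.node 1 (.node 0 (.node 0 (.node 0 .nil .nil) (.node 2 .nil .nil)) (.node 1 .nil (.node 2 (.node 2 .nil .nil) .nil))) (.node 2 (.node 2 (.node 0 .nil .nil) .nil) .nil))) (.node 1 (.node 0 (.node 0 .nil (.node 1 (.node 0 .nil .nil) .nil)) (.node 1 (.node 0 (.node 0 .nil .nil) (.node 1 (.node 2 .nil .nil) (.node 2 (.node 1 .nil .nil) .nil))) (.node 2 (.node 0 .nil (.node 1 (.node 1 .nil .nil) (.node 2 (.node 0 .nil (.node 1 .nil .nil)) .nil))) .nil))) (.node 2 (.node 0 (.node 0 (.node 2 (.node 1 .nil .nil)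 .nil) (.node 1 (.node 1 .nil (.node 2 .nil .nil)) (.node 2 (.node 1 .nil .nil) .nil))) (.node 1 (.node 1 (.node 1 .nil .nil) (.node 2 (.node 1 .nil .nil) .nil)) .nil)) .nil))) .nil))) (.node 2 (.node 0 (.node 0 (.node 0 (.node 0 .nil (.node 1 (.node 0 (.node 2 .nil .nil) .nil) .nil)) (.node 1 (.node 0 .nil (.node 1 .nil (.node 2 (.node 1 .nil (.node 2 .nil .nil)) .nil))) (.node 2 (.node 0 (.node 2 (.node 2 .nil .nil) .nil) (.node 2 .nil .nil)) .nil))) (.node 1 (.node 0 .nil (.node 1 (.node 0 (.node 2 .nil .nil) (.node 2 (.node 2 .nil .nil) .nil)) (.node 2 (.node 1 (.node 0 .nil (.node 1 .nil (.node 2 .nil .nil))) .nil) .nil))) (.node 2 (.node 1 (.node 0 .nil (.node 1 (.node 2 .nil .nil) .nil)) (.node 2 (.node 0 .nil (.node 1 (.node 2 .nil .nil) (.node 2 (.node 0 .nil .nil) .nil))) .nil)) .nil))) (.node 1 (.node 0 (.node 0 (.node 0 (.node 0 .nil .nil) .nil) (.node 1 (.node 0 .nil .nil) (.node 2 (.node 1 (.node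 1 .nil .nil) (.node 2 (.node 0 .nil .nil) .nil)) .nil))) (.node 1 (.node 0 (.node 1 (.node 0 .nil (.node 1 .nil .nil)) .nil) (.node 1 (.node 1 (.node 0 .nil (.node 2 .nil .nil)) (.node 2 (.node 0 .nil (.node 1 .nil (.node 2 .nil .nil))) .nil)) (.node 2 (.node 1 .nil (.node 2 .nil .nil)) .nil))) (.node 2 (.node 0 (.node 0 (.node 2 .nil .nil) (.node 1 (.node 1 .nil .nil) (.node 2 .nil .nil))) (.node 1 (.node 0 (.node 0 .nil (.node 2 .nil .nil)) (.node 1 (.node 0 .nil .nil) (.node 2 .nil .nil))) (.node 2 (.node 1 (.node 0 .nil .nil) (.node 2 (.node 1 .nil .nil) .nil)) .nil))) .nil))) (.node 2 (.node 0 (.node 0 (.node 0 .nil (.node 2 (.node 0 .nil .nil) .nil)) (.node 1 (.node 1 (.node 1 .nil .nil) .nil) (.node 2 (.node 2 (.node 0 .nil .nil) .nil) .nil))) (.node 1 (.node 0 (.node 0 (.node 1 (.node 2 .nil .nil) .nil) .nil) (.node 2 (.node 1 .nil (.node 2 .nil .nil)) .nil)) (.node 2 (.node 0 (.node 0 .nil (.node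 1 (.node 0 .nil (.node 1 .nil .nil)) .nil)) (.node 1 (.node 1 (.node 1 .nil .nil) .nil) (.node 2 (.node 1 .nil .nil) .nil))) .nil))) .nil))) .nil))),
   495⟩

/-- Class 2. -/
def cls2 : Cls :=
  ⟨[39, 45120, 786960, 1116288, 6292736, 8536072],
   (.node 0 (.node 0 (.node 0 (.node 0 (.node 0 (.node 0 .nil (.node 1 (.node 1 (.node 1 .nil .nil) (.node 2 .nil .nil)) (.node 2 (.node 0 (.node 2 .nil .nil) (.node 2 (.node 0 .nil .nil) .nil)) .nil))) (.node 1 (.node 0 (.node 0 (.node 0 .nil .nil) .nil) (.node 2 (.node 1 .nil .nil) .nil)) (.node 2 (.node 0 .nil (.node 1 (.node 1 .nil (.node 2 (.node 0 .nil .nil) .nil)) (.node 2 (.node 1 .nil .nil) .nil))) .nil))) (.node 1 (.node 0 (.node 0 (.node 0 .nil .nil) (.node 1 (.node 0 .nil (.node 2 .nil .nil)) (.node 2 .nil .nil))) (.node 1 (.node 0 (.node 1 .nil (.node 2 .nil .nil)) (.node 1 (.node 0 .nil .nil) (.node 2 (.node 1 .nil .nil) .nil))) (.node 2 (.node 0 (.node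 0 (.node 1 .nil .nil) (.node 1 .nil (.node 2 .nil .nil))) (.node 1 (.node 2 .nil .nil) (.node 2 (.node 2 (.node 1 .nil .nil) .nil) .nil))) .nil))) (.node 2 (.node 0 (.node 0 (.node 0 .nil (.node 2 .nil .nil)) (.node 2 (.node 2 (.node 1 .nil .nil) .nil) .nil)) (.node 1 (.node 0 (.node 0 .nil (.node 1 .nil (.node 2 (.node 1 .nil .nil) .nil))) (.node 2 (.node 0 .nil .nil) .nil)) .nil)) .nil))) (.node 1 (.node 1 (.node 0 (.node 0 (.node 1 .nil (.node 2 .nil .nil)) .nil) (.node 1 (.node 0 (.node 2 .nil .nil) (.node 1 (.node 2 .nil .nil) .nil)) .nil)) (.node 2 (.node 0 (.node 0 (.node 2 .nil .nil) (.node 1 (.node 0 .nil .nil) .nil)) (.node 1 (.node 1 (.node 1 (.node 2 .nil .nil) (.node 2 (.node 2 .nil .nil) .nil)) (.node 2 .nil .nil)) .nil)) .nil)) (.node 2 (.node 0 (.node 0 (.node 0 (.node 0 .nil (.node 2 .nil .nil)) (.node 1 (.node 0 .nil (.node 1 .nil .nil)) (.node 2 .nil .nil))) (.node 1 (.node 1 .nil (.node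 2 (.node 0 .nil (.node 1 (.node 2 .nil .nil) .nil)) .nil)) (.node 2 (.node 0 (.node 0 .nil (.node 1 .nil (.node 2 .nil .nil))) (.node 2 .nil .nil)) .nil))) (.node 1 (.node 1 (.node 0 (.node 2 (.node 2 .nil .nil) .nil) (.node 2 (.node 1 .nil .nil) .nil)) (.node 2 (.node 1 .nil .nil) .nil)) (.node 2 (.node 0 (.node 0 (.node 0 .nil .nil) (.node 1 (.node 0 .nil (.node 1 (.node 1 .nil .nil) (.node 2 (.node 2 .nil .nil) .nil))) (.node 2 (.node 0 .nil .nil) .nil))) (.node 1 (.node 0 (.node 1 .nil .nil) (.node 1 (.node 0 .nil .nil) .nil)) .nil)) .nil))) .nil))) (.node 1 (.node 0 (.node 0 (.node 0 (.node 0 (.node 1 .nil .nil) .nil) (.node 1 (.node 0 (.node 0 .nil (.node 1 .nil .nil)) (.node 1 (.node 2 .nil .nil) (.node 2 (.node 2 .nil .nil) .nil))) (.node 2 (.node 1 .nil (.node 2 .nil .nil)) .nil))) (.node 1 (.node 0 (.node 0 (.node 0 .nil .nil) (.node 1 (.node 0 .nil .nil) (.node 2 (.node 0 .nil .nil) .nil))) (.node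 1 (.node 1 .nil (.node 2 (.node 0 .nil (.node 1 .nil (.node 2 .nil .nil))) .nil)) .nil)) (.node 2 (.node 0 (.node 1 (.node 0 .nil (.node 1 .nil .nil)) .nil) (.node 1 (.node 1 (.node 1 .nil (.node 2 .nil .nil)) (.node 2 (.node 2 (.node 1 .nil .nil) .nil) .nil)) (.node 2 .nil .nil))) .nil))) (.node 1 (.node 0 (.node 0 (.node 1 (.node 0 .nil .nil) (.node 2 (.node 1 .nil (.node 2 (.node 1 .nil (.node 2 .nil .nil)) .nil)) .nil)) (.node 1 (.node 0 (.node 0 .nil (.node 1 (.node 0 .nil .nil) .nil)) (.node 1 .nil (.node 2 (.node 0 .nil (.node 1 .nil .nil)) .nil))) (.node 2 (.node 1 .nil .nil) .nil))) (.node 1 (.node 0 (.node 1 (.node 0 (.node 1 .nil .nil) (.node 2 .nil .nil)) (.node 2 (.node 1 (.node 2 .nil .nil) .nil) .nil)) (.node 1 (.node 1 .nil .nil) (.node 2 (.node 1 (.node 0 .nil (.node 2 .nil .nil)) .nil) .nil))) (.node 2 (.node 0 (.node 0 .nil (.node 2 .nil .nil)) (.node 1 (.node 0 .nil (.node 2 .nil .nil))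 (.node 2 (.node 0 (.node 0 .nil (.node 1 .nil .nil)) (.node 1 (.node 2 .nil .nil) (.node 2 .nil .nil))) .nil))) .nil))) (.node 2 (.node 0 (.node 0 (.node 0 (.node 0 .nil (.node 2 .nil .nil)) (.node 1 (.node 0 .nil (.node 1 (.node 1 .nil .nil) .nil)) (.node 2 .nil .nil))) (.node 1 (.node 1 (.node 0 .nil (.node 2 .nil .nil)) (.node 2 (.node 1 .nil (.node 2 .nil .nil)) .nil)) (.node 2 (.node 0 .nil (.node 1 (.node 0 .nil .nil) .nil)) .nil))) (.node 1 (.node 0 (.node 0 (.node 0 .nil (.node 1 .nil .nil)) (.node 2 (.node 2 .nil .nil) .nil)) (.node 1 (.node 0 (.node 1 .nil .nil) .nil) (.node 2 (.node 0 .nil (.node 1 (.node 2 .nil .nil) (.node 2 (.node 0 .nil .nil) .nil))) .nil))) (.node 2 (.node 1 (.node 0 .nil (.node 1 (.node 0 .nil (.node 2 .nil .nil)) (.node 2 (.node 2 .nil .nil) .nil))) .nil) .nil))) .nil))) (.node 2 (.node 0 (.node 0 (.node 0 (.node 0 (.node 2 .nil .nil) (.node 1 (.node 0 .nil (.node 1 .nil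 .nil)) .nil)) (.node 1 (.node 1 (.node 0 .nil .nil) (.node 2 (.node 1 .nil (.node 2 .nil .nil)) .nil)) (.node 2 (.node 0 (.node 0 .nil .nil) (.node 1 (.node 0 (.node 0 .nil .nil) (.node 1 .nil (.node 2 .nil .nil))) (.node 2 (.node 2 .nil .nil) .nil))) .nil))) (.node 1 (.node 0 (.node 1 .nil (.node 2 (.node 0 .nil (.node 1 .nil .nil)) .nil)) (.node 1 (.node 0 (.node 0 .nil (.node 2 .nil .nil)) (.node 1 .nil (.node 2 (.node 0 .nil (.node 2 .nil .nil)) .nil))) (.node 2 (.node 0 (.node 0 .nil .nil) (.node 1 (.node 2 (.node 2 .nil .nil) .nil) (.node 2 (.node 1 .nil (.node 2 .nil .nil)) .nil))) .nil))) (.node 2 (.node 0 (.node 0 .nil (.node 2 .nil .nil)) (.node 1 (.node 1 (.node 1 .nil .nil) (.node 2 .nil .nil)) .nil)) .nil))) (.node 1 (.node 0 (.node 0 (.node 0 .nil (.node 2 (.node 2 .nil .nil) .nil)) (.node 1 (.node 0 .nil (.node 1 (.node 0 .nil .nil) (.node 2 .nil .nil))) (.node 2 (.node 2 (.node 0 .nil (.node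 2 .nil .nil)) .nil) .nil))) (.node 1 (.node 0 (.node 1 (.node 1 .nil .nil) (.node 2 .nil .nil)) (.node 1 (.node 2 .nil .nil) (.node 2 (.node 1 .nil (.node 2 (.node 0 (.node 2 .nil .nil) .nil) .nil)) .nil))) (.node 2 (.node 1 (.node 1 (.node 0 .nil .nil) (.node 2 .nil .nil)) (.node 2 (.node 0 (.node 0 .nil (.node 2 .nil .nil)) (.node 1 .nil (.node 2 (.node 1 .nil .nil) .nil))) .nil)) .nil))) (.node 2 (.node 0 (.node 0 (.node 1 (.node 0 .nil .nil) (.node 2 (.node 0 .nil .nil) .nil)) (.node 2 (.node 0 (.node 2 .nil .nil) .nil) .nil)) (.node 1 (.node 0 (.node 0 (.node 1 .nil (.node 2 .nil .nil)) (.node 2 .nil .nil)) (.node 1 (.node 0 (.node 1 .nil (.node 2 .nil .nil)) (.node 1 .nil (.node 2 (.node 0 .nil (.node 1 .nil .nil)) .nil))) (.node 2 .nil .nil))) (.node 2 (.node 0 (.node 0 .nil (.node 1 .nil (.node 2 .nil .nil))) (.node 1 (.node 0 (.node 2 .nil .nil) (.node 1 .nil (.node 2 .nil .nil))) (.node 2 .nil .nil)))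 .nil))) .nil))) .nil))) (.node 1 (.node 0 (.node 1 (.node 0 (.node 0 (.node 1 (.node 2 .nil .nil) .nil) (.node 1 (.node 0 (.node 1 .nil .nil) (.node 2 (.node 1 .nil (.node 2 .nil .nil)) .nil)) (.node 2 (.node 0 .nil (.node 1 (.node 1 .nil .nil) (.node 2 (.node 0 .nil .nil) .nil))) .nil))) (.node 1 (.node 0 (.node 2 (.node 2 .nil .nil) .nil) (.node 1 (.node 0 (.node 1 .nil .nil) (.node 2 .nil .nil)) (.node 2 (.node 0 (.node 1 .nil .nil) (.node 2 .nil .nil)) .nil))) (.node 2 (.node 0 (.node 0 (.node 0 .nil (.node 2 .nil .nil)) .nil) (.node 1 (.node 0 .nil (.node 1 (.node 2 .nil .nil) (.node 2 (.node 2 .nil .nil) .nil))) .nil)) .nil))) (.node 2 (.node 0 (.node 0 (.node 0 .nil .nil) (.node 1 (.node 0 .nil (.node 1 (.node 0 .nil (.node 2 .nil .nil)) (.node 2 .nil .nil))) (.node 2 .nil .nil))) (.node 1 (.node 0 (.node 0 .nil (.node 1 .nil (.node 2 .nil .nil))) (.node 1 (.node 1 (.node 0 .nil (.node 2 .nil .nil))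 (.node 2 (.node 0 .nil .nil) .nil)) (.node 2 (.node 0 .nil (.node 2 (.node 0 .nil .nil) .nil)) .nil))) (.node 2 (.node 0 (.node 0 .nil (.node 1 .nil (.node 2 (.node 1 .nil .nil) .nil))) (.node 1 (.node 0 .nil (.node 1 .nil (.node 2 .nil .nil))) (.node 2 (.node 0 .nil (.node 2 .nil .nil)) .nil))) .nil))) .nil)) (.node 1 (.node 0 (.node 0 (.node 0 (.node 1 (.node 0 .nil .nil) (.node 2 .nil .nil)) (.node 1 (.node 0 (.node 0 .nil (.node 2 .nil .nil)) (.node 1 (.node 2 .nil .nil) (.node 2 .nil .nil))) (.node 2 (.node 0 (.node 2 .nil .nil) (.node 2 .nil .nil)) .nil))) (.node 1 (.node 1 (.node 1 (.node 0 .nil .nil) .nil) .nil) (.node 2 (.node 0 (.node 0 (.node 1 .nil (.node 2 .nil .nil)) (.node 1 .nil .nil)) (.node 1 (.node 0 .nil (.node 1 .nil (.node 2 (.node 0 .nil .nil) .nil))) .nil)) .nil))) (.node 1 (.node 0 (.node 0 (.node 0 .nil .nil) (.node 1 (.node 0 (.node 2 .nil .nil) (.node 2 .nil .nil)) .nil)) (.node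 1 (.node 0 (.node 0 (.node 1 (.node 1 .nil .nil) (.node 2 .nil .nil)) (.node 1 .nil (.node 2 .nil .nil))) (.node 1 (.node 0 .nil (.node 1 .nil .nil)) (.node 2 (.node 0 .nil .nil) .nil))) (.node 2 (.node 1 (.node 0 .nil (.node 1 (.node 0 .nil .nil) (.node 2 (.node 2 .nil .nil) .nil))) .nil) .nil))) (.node 2 (.node 0 (.node 0 (.node 1 (.node 1 .nil (.node 2 .nil .nil)) (.node 2 (.node 2 .nil .nil) .nil)) (.node 1 (.node 1 (.node 2 .nil .nil) (.node 2 (.node 2 .nil .nil) .nil)) .nil)) (.node 1 (.node 0 (.node 2 (.node 2 .nil .nil) .nil) (.node 1 (.node 0 (.node 1 .nil .nil) .nil) (.node 2 (.node 2 .nil .nil) .nil))) (.node 2 (.node 0 (.node 2 .nil .nil) (.node 1 (.node 1 .nil .nil) .nil)) .nil))) .nil))) (.node 2 (.node 0 (.node 0 (.node 0 (.node 0 (.node 0 .nil (.node 1 .nil .nil)) (.node 1 (.node 1 .nil .nil) .nil)) (.node 1 (.node 1 .nil .nil) .nil)) (.node 1 (.node 0 (.node 1 (.node 0 .nil .nil) (.node 2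 .nil .nil)) (.node 1 (.node 1 (.node 0 .nil .nil) (.node 2 (.node 0 .nil .nil) .nil)) .nil)) (.node 2 (.node 0 (.node 2 .nil .nil) (.node 2 (.node 0 .nil .nil) .nil)) .nil))) (.node 1 (.node 0 (.node 0 (.node 0 .nil (.node 1 (.node 1 .nil .nil) .nil)) (.node 1 (.node 0 .nil .nil) .nil)) (.node 1 (.node 0 (.node 0 (.node 0 .nil (.node 1 .nil .nil)) (.node 2 .nil .nil)) (.node 1 (.node 0 .nil (.node 1 .nil .nil)) (.node 2 (.node 1 (.node 0 .nil .nil) (.node 2 (.node 0 .nil .nil) .nil)) .nil))) (.node 2 (.node 0 (.node 0 .nil (.node 1 .nil .nil)) (.node 1 (.node 1 (.node 1 .nil .nil) .nil) (.node 2 (.node 0 (.node 2 .nil .nil) (.node 1 (.node 0 .nil .nil) (.node 2 .nil .nil))) .nil))) .nil))) (.node 2 (.node 0 (.node 1 (.node 2 .nil .nil) .nil) (.node 1 (.node 0 (.node 0 .nil .nil) (.node 1 (.node 0 .nil (.node 1 .nil .nil)) (.node 2 .nil .nil))) .nil)) .nil))) .nil))) (.node 2 (.node 0 (.node 0 (.node 0 (.node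 0 (.node 0 (.node 2 .nil .nil) (.node 1 (.node 0 .nil .nil) (.node 2 .nil .nil))) (.node 1 (.node 0 (.node 0 .nil .nil) (.node 1 (.node 0 .nil .nil) .nil)) (.node 2 (.node 2 .nil .nil) .nil))) (.node 1 (.node 0 (.node 1 .nil (.node 2 .nil .nil)) (.node 2 (.node 0 .nil (.node 1 (.node 0 .nil (.node 2 .nil .nil)) .nil)) .nil)) .nil)) (.node 1 (.node 0 (.node 0 (.node 0 (.node 0 .nil (.node 2 .nil .nil)) .nil) (.node 1 (.node 1 .nil .nil) (.node 2 (.node 0 .nil (.node 1 (.node 0 .nil .nil) (.node 2 .nil .nil))) .nil))) (.node 1 (.node 0 (.node 0 .nil .nil) .nil) (.node 2 (.node 0 (.node 0 (.node 0 .nil (.node 2 .nil .nil)) .nil) (.node 1 (.node 0 .nil (.node 2 .nil .nil)) (.node 2 (.node 1 .nil (.node 2 .nil .nil)) .nil))) .nil))) (.node 2 (.node 0 (.node 0 (.node 0 (.node 1 .nil .nil) .nil) (.node 1 (.node 0 .nil .nil) (.node 2 (.node 0 .nil .nil) .nil))) (.node 1 (.node 0 (.node 1 (.node 1 .nil .nil) (.node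 2 .nil .nil)) (.node 1 (.node 1 .nil (.node 2 .nil .nil)) .nil)) (.node 2 (.node 0 (.node 1 (.node 2 .nil .nil) .nil) (.node 1 (.node 1 .nil (.node 2 .nil .nil)) (.node 2 (.node 0 .nil (.node 2 (.node 1 .nil .nil) .nil)) .nil))) .nil))) .nil))) (.node 1 (.node 0 (.node 0 (.node 0 (.node 0 (.node 1 .nil .nil) .nil) (.node 1 (.node 0 (.node 1 .nil .nil) (.node 1 .nil (.node 2 (.node 0 .nil .nil) .nil))) (.node 2 (.node 0 (.node 2 .nil .nil) (.node 1 .nil .nil)) .nil))) (.node 1 (.node 0 .nil (.node 1 (.node 1 (.node 1 .nil .nil) (.node 2 (.node 0 (.node 2 .nil .nil) (.node 1 .nil (.node 2 .nil .nil))) .nil)) (.node 2 (.node 1 .nil (.node 2 (.node 1 .nil .nil) .nil)) .nil))) (.node 2 (.node 0 (.node 2 .nil .nil) (.node 1 (.node 2 (.node 1 .nil .nil) .nil) .nil)) .nil))) (.node 1 (.node 0 (.node 0 (.node 2 (.node 2 .nil .nil) .nil) (.node 1 .nil (.node 2 (.node 2 (.node 2 .nil .nil) .nil) .nil))) (.node 2 (.node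 0 (.node 1 .nil (.node 2 (.node 0 .nil (.node 2 .nil .nil)) .nil)) (.node 1 .nil (.node 2 (.node 2 .nil .nil) .nil))) .nil)) (.node 2 (.node 0 (.node 0 (.node 2 .nil .nil) (.node 1 (.node 0 .nil .nil) .nil)) (.node 1 (.node 0 .nil (.node 1 (.node 0 .nil (.node 1 .nil (.node 2 (.node 0 .nil .nil) .nil))) (.node 2 (.node 0 .nil (.node 2 .nil .nil)) .nil))) (.node 2 (.node 0 (.node 2 .nil .nil) (.node 1 (.node 1 .nil .nil) (.node 2 (.node 0 .nil (.node 1 (.node 2 .nil .nil) .nil)) .nil))) .nil))) .nil))) (.node 2 (.node 0 (.node 0 (.node 0 (.node 0 .nil (.node 1 .nil .nil)) (.node 2 .nil .nil)) (.node 1 (.node 0 .nil (.node 1 (.node 0 (.node 2 .nil .nil) (.node 2 .nil .nil)) (.node 2 (.node 2 (.node 0 .nil .nil) .nil) .nil))) (.node 2 (.node 1 (.node 1 .nil .nil) (.node 2 (.node 2 .nil .nil) .nil)) .nil))) (.node 1 (.node 1 (.node 0 (.node 0 .nil (.node 2 (.node 1 .nil (.node 2 .nil .nil)) .nil)) (.node 1 (.node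 0 (.node 1 .nil .nil) (.node 1 .nil .nil)) (.node 2 (.node 1 (.node 1 .nil .nil) (.node 2 (.node 0 .nil .nil) .nil)) .nil))) (.node 2 .nil .nil)) (.node 2 (.node 0 (.node 0 (.node 1 .nil .nil) (.node 1 (.node 0 .nil (.node 1 .nil (.node 2 .nil .nil))) (.node 2 (.node 1 .nil (.node 2 .nil .nil)) .nil))) (.node 1 (.node 0 (.node 2 (.node 2 .nil .nil) .nil) (.node 1 (.node 0 .nil .nil) (.node 2 .nil .nil))) (.node 2 (.node 0 (.node 0 .nil (.node 1 .nil (.node 2 .nil .nil))) (.node 1 (.node 2 .nil .nil) .nil)) .nil))) .nil))) .nil))) .nil))),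
   880⟩

/-- All classes. -/
def classes : List Cls := [cls0, cls1, cls2]

/-- Value and size of each class. -/
def table : List (ℕ × ℕ) := [(192, 396), (640, 495), (492, 880)]

theorem cert_ok : suborbOk gens base classes 16777216 = true := by decide +kernel

theorem table_ok : classes.map (fun c => (crossL base c.root, c.size)) = table := by decide +kernel

end CfsgLib.Golay.Suborb.DodSex
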