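/-
Suborbit certificate OctOct.
-/
import Cfsg.Agent.Golay.Suborb

set_option autoImplicit false
set_option maxRecDepth 20000

namespace CfsgLib.Golay.Suborb.OctOct

/-- Masks of the base family. -/
def base : List ℕ := [8391797]

/-- Elements of the group fixing the base family. -/
def gens : List (List ℕ) :=
  [[6, 16, 23, 12, 5, 11, 0, 22, 13, 20, 4, 2, 15, 14, 17, 1, 18, 8, 19, 21, 7, 9, 3, 10],
   [0, 18, 23, 9, 11, 6, 5, 15, 19, 17, 4, 10, 22, 1, 14, 20, 12, 13, 3, 21, 7, 16, 8, 2],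
   [11, 1, 4, 13, 6, 5, 10, 18, 14, 15, 0, 23, 7, 19, 3, 21, 16, 8, 9, 20, 17, 22, 12, 2]]

/-- Class 0. -/
def cls0 : Cls :=
  ⟨[8391797],
   .nil,
   1⟩

/-- Class 1. -/
def cls1 : Cls :=
  ⟨[4845570],
   (.node 0 (.node 0 (.node 0 (.node 0 .nil (.node 2 .nil .nil)) (.node 1 (.node 2 .nil .nil) (.node 2 .nil .nil))) (.node 1 (.node 0 (.node 0 .nil (.node 1 .nil (.node 2 .nil .nil))) .nil) (.node 2 .nil .nil))) (.node 1 (.node 0 (.node 1 .nil .nil) (.node 1 (.node 1 .nil .nil) (.node 2 (.node 0 (.node 2 .nil .nil) (.node 1 (.node 0 .nil .nil) (.node 2 .nil .nil))) .nil))) (.node 2 (.node 0 (.node 0 .nil .nil) (.node 2 .nil .nil)) .nil))),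
   30⟩

/-- Class 2. -/
def cls2 : Cls :=
  ⟨[8966165],
   (.node 0 (.node 0 (.node 1 (.node 0 (.node 0 .nil (.node 1 (.node 2 .nil .nil) (.node 2 (.node 1 .nil (.node 2 .nil .nil)) .nil))) (.node 1 (.node 0 (.node 0 .nil .nil) (.node 2 .nil .nil)) (.node 2 (.node 0 .nil (.node 1 (.node 0 (.node 1 .nil .nil) .nil) (.node 2 .nil .nil))) .nil))) (.node 2 (.node 0 (.node 1 (.node 0 .nil (.node 1 (.node 1 .nil .nil) .nil)) .nil) (.node 1 (.node 0 (.node 1 .nil .nil) (.node 1 (.node 2 .nil .nil) (.node 2 (.node 1 .nil (.node 2 .nil .nil)) .nil))) (.node 2 (.node 0 (.node 0 (.node 0 .nil .nil) (.node 2 (.node 0 .nil (.node 2 .nil .nil)) .nil)) (.node 2 (.node 0 .nil (.node 2 .nil .nil)) .nil)) .nil))) .nil)) (.node 1 (.node 0 (.node 0 (.node 0 (.node 1 .nil (.node 2 (.node 2 .nil .nil) .nil)) (.node 1 (.node 0 (.node 2 .nil .nil) (.node 2 (.node 2 .nil .nil) .nil)) .nil)) (.node 1 (.node 1 (.node 0 .nil .nil) .nil)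 (.node 2 (.node 0 (.node 0 .nil .nil) .nil) .nil))) (.node 1 (.node 0 (.node 0 (.node 0 .nil (.node 2 .nil .nil)) (.node 2 (.node 2 .nil .nil) .nil)) (.node 1 (.node 1 (.node 0 .nil (.node 2 .nil .nil)) (.node 2 (.node 1 .nil (.node 2 .nil .nil)) .nil)) (.node 2 (.node 0 .nil (.node 2 .nil .nil)) .nil))) (.node 2 (.node 0 (.node 0 .nil (.node 1 (.node 0 .nil (.node 2 .nil .nil)) (.node 2 (.node 0 .nil .nil) .nil))) (.node 1 (.node 0 (.node 1 .nil .nil) (.node 1 (.node 1 .nil .nil) (.node 2 .nil .nil))) (.node 2 (.node 0 (.node 1 .nil .nil) (.node 1 .nil (.node 2 (.node 0 .nil (.node 2 .nil .nil)) .nil))) .nil))) .nil))) (.node 2 (.node 0 (.node 1 (.node 0 (.node 2 .nil .nil) .nil) (.node 2 (.node 0 .nil (.node 1 .nil (.node 2 .nil .nil))) .nil)) (.node 1 (.node 0 (.node 1 (.node 0 .nil .nil) (.node 2 .nil .nil)) (.node 1 (.node 0 .nil (.node 1 (.node 1 .nil .nil) .nil)) (.node 2 (.node 0 .nil (.node 1 (.node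 0 .nil (.node 2 .nil .nil)) (.node 2 (.node 1 (.node 0 .nil (.node 1 .nil .nil)) .nil) .nil))) .nil))) (.node 2 (.node 0 (.node 0 (.node 1 .nil .nil) (.node 1 .nil .nil)) (.node 1 (.node 0 (.node 0 .nil (.node 2 .nil .nil)) .nil) .nil)) .nil))) .nil))) (.node 1 (.node 0 (.node 0 (.node 0 (.node 1 .nil .nil) (.node 1 (.node 0 (.node 1 .nil .nil) (.node 1 .nil (.node 2 .nil .nil))) (.node 2 .nil .nil))) (.node 1 (.node 0 (.node 0 (.node 0 .nil .nil) (.node 2 .nil .nil)) (.node 1 .nil .nil)) (.node 2 (.node 0 (.node 1 (.node 2 (.node 2 .nil .nil) .nil) (.node 2 (.node 2 .nil .nil) .nil)) (.node 1 (.node 0 (.node 2 .nil .nil) (.node 1 .nil .nil)) (.node 2 (.node 0 (.node 1 .nil .nil) .nil) .nil))) .nil))) (.node 1 (.node 2 (.node 0 .nil (.node 1 (.node 1 (.node 1 .nil (.node 2 .nil .nil)) (.node 2 .nil .nil)) .nil)) .nil) (.node 2 (.node 0 (.node 0 (.node 0 (.node 0 .nil .nil) (.node 2 .nil .nil)) (.node 1 (.node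 0 (.node 0 .nil .nil) (.node 1 .nil .nil)) (.node 2 (.node 2 .nil .nil) .nil))) (.node 1 (.node 0 (.node 1 .nil .nil) (.node 1 (.node 1 (.node 0 .nil .nil) (.node 2 .nil .nil)) .nil)) (.node 2 (.node 0 (.node 0 .nil .nil) (.node 1 (.node 1 (.node 0 .nil .nil) .nil) (.node 2 (.node 1 .nil (.node 2 .nil .nil)) .nil))) .nil))) .nil))) (.node 2 (.node 0 (.node 0 (.node 0 (.node 0 .nil (.node 1 .nil .nil)) (.node 1 (.node 2 (.node 0 .nil .nil) .nil) (.node 2 (.node 0 .nil .nil) .nil))) (.node 1 (.node 0 (.node 0 .nil (.node 2 .nil .nil)) (.node 1 (.node 0 .nil (.node 2 .nil .nil)) (.node 2 .nil .nil))) (.node 2 (.node 2 .nil .nil) .nil))) (.node 1 (.node 0 (.node 0 (.node 0 (.node 1 .nil .nil) .nil) (.node 1 (.node 0 .nil (.node 1 (.node 1 .nil .nil) (.node 2 .nil .nil))) (.node 2 (.node 1 (.node 0 .nil (.node 2 .nil .nil)) (.node 2 .nil .nil)) .nil))) (.node 1 (.node 0 (.node 1 .nil .nil) (.node 1 (.node 0 .nil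 .nil) (.node 2 (.node 0 .nil (.node 1 (.node 1 .nil .nil) .nil)) .nil))) (.node 2 (.node 0 (.node 1 .nil (.node 2 (.node 0 .nil (.node 2 .nil .nil)) .nil)) (.node 1 (.node 0 (.node 0 .nil (.node 1 .nil .nil)) .nil) (.node 2 (.node 1 .nil .nil) .nil))) .nil))) (.node 2 (.node 0 (.node 2 (.node 1 .nil (.node 2 .nil .nil)) .nil) (.node 1 (.node 0 (.node 1 .nil .nil) .nil) (.node 2 (.node 0 (.node 1 .nil .nil) (.node 1 (.node 0 .nil (.node 1 .nil (.node 2 .nil .nil))) (.node 2 (.node 0 .nil (.node 2 (.node 1 .nil .nil) .nil)) .nil))) .nil))) .nil))) .nil))),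
   280⟩

/-- Class 3. -/
def cls3 : Cls :=
  ⟨[13062145],
   (.node 0 (.node 0 (.node 0 (.node 0 (.node 0 (.node 0 (.node 2 .nil .nil) (.node 1 .nil .nil)) (.node 1 (.node 1 .nil .nil) .nil)) (.node 1 (.node 0 (.node 1 .nil (.node 2 .nil .nil)) (.node 1 (.node 1 (.node 2 .nil .nil) .nil) (.node 2 .nil .nil))) (.node 2 (.node 0 (.node 0 (.node 0 .nil (.node 1 .nil .nil)) (.node 1 (.node 1 .nil .nil) .nil)) (.node 1 (.node 0 (.node 1 .nil .nil) (.node 1 (.node 0 .nil .nil) .nil)) (.node 2 .nil .nil))) .nil))) (.node 1 (.node 1 (.node 0 (.node 0 .nil (.node 1 (.node 1 .nil .nil) .nil)) (.node 1 (.node 0 (.node 0 .nil (.node 1 .nil .nil)) (.node 1 .nil .nil)) (.node 2 (.node 0 .nil (.node 2 .nil .nil)) .nil))) (.node 2 (.node 0 (.node 0 (.node 2 .nil .nil) (.node 1 .nil (.node 2 .nil .nil))) (.node 1 (.node 0 (.node 1 .nil .nil) .nil) .nil)) .nil)) (.node 2 (.node 0 (.node 0 .nil (.node 1 (.node 1 .nil (.node 2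 (.node 0 .nil .nil) .nil)) (.node 2 .nil .nil))) (.node 1 (.node 0 (.node 0 .nil (.node 1 .nil (.node 2 (.node 2 .nil .nil) .nil))) (.node 1 (.node 0 .nil .nil) (.node 2 .nil .nil))) (.node 2 (.node 0 (.node 1 .nil (.node 2 .nil .nil)) (.node 1 (.node 0 .nil .nil) (.node 2 (.node 1 .nil .nil) .nil))) .nil))) .nil))) (.node 1 (.node 0 (.node 0 (.node 1 (.node 1 .nil .nil) (.node 2 (.node 0 (.node 0 .nil .nil) (.node 2 .nil .nil)) .nil)) (.node 1 (.node 0 (.node 2 (.node 0 .nil .nil) .nil) (.node 1 .nil .nil)) (.node 2 (.node 0 (.node 0 (.node 0 .nil .nil) (.node 1 (.node 2 .nil .nil) (.node 2 .nil .nil))) (.node 1 (.node 2 .nil .nil) (.node 2 (.node 0 .nil (.node 1 .nil (.node 2 .nil .nil))) .nil))) .nil))) (.node 1 (.node 0 (.node 1 (.node 0 .nil (.node 1 .nil (.node 2 .nil .nil))) (.node 2 (.node 2 .nil .nil) .nil)) (.node 1 (.node 0 (.node 1 .nil (.node 2 (.node 0 .nil .nil) .nil)) (.node 1 (.node 0 (.node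 2 .nil .nil) (.node 1 .nil (.node 2 .nil .nil))) (.node 2 .nil .nil))) (.node 2 (.node 0 (.node 0 .nil (.node 2 .nil .nil)) (.node 1 .nil (.node 2 (.node 2 (.node 0 .nil .nil) .nil) .nil))) .nil))) (.node 2 (.node 0 (.node 0 (.node 0 .nil (.node 1 .nil .nil)) (.node 1 (.node 0 .nil (.node 1 (.node 0 .nil .nil) (.node 2 .nil .nil))) (.node 2 (.node 2 .nil .nil) .nil))) (.node 1 (.node 1 .nil .nil) (.node 2 (.node 0 (.node 1 .nil (.node 2 .nil .nil)) (.node 1 (.node 2 .nil .nil) .nil)) .nil))) .nil))) (.node 2 (.node 0 (.node 0 (.node 0 (.node 2 .nil .nil) (.node 1 .nil (.node 2 (.node 0 .nil .nil) .nil))) (.node 1 (.node 0 (.node 2 (.node 2 .nil .nil) .nil) (.node 1 (.node 2 (.node 2 .nil .nil) .nil) (.node 2 .nil .nil))) .nil)) (.node 1 (.node 0 (.node 0 (.node 0 .nil .nil) (.node 1 (.node 1 .nil (.node 2 (.node 2 .nil .nil) .nil)) (.node 2 (.node 0 .nil .nil) .nil))) (.node 1 (.node 0 (.node 0 .nil (.node 1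 .nil .nil)) (.node 1 (.node 0 .nil (.node 2 (.node 0 .nil .nil) .nil)) (.node 2 (.node 0 .nil (.node 1 (.node 0 .nil .nil) .nil)) .nil))) (.node 2 (.node 0 .nil (.node 1 .nil (.node 2 (.node 2 .nil .nil) .nil))) .nil))) (.node 2 (.node 0 (.node 1 .nil (.node 2 (.node 0 .nil (.node 2 .nil .nil)) .nil)) (.node 2 (.node 0 (.node 0 .nil (.node 2 .nil .nil)) (.node 1 (.node 0 .nil (.node 2 .nil .nil)) (.node 2 (.node 0 .nil .nil) .nil))) .nil)) .nil))) .nil))) (.node 1 (.node 0 (.node 0 (.node 0 (.node 0 (.node 0 (.node 2 .nil .nil) .nil) (.node 1 .nil (.node 2 .nil .nil))) (.node 1 (.node 0 (.node 2 .nil .nil) (.node 2 (.node 1 .nil .nil) .nil)) .nil)) (.node 1 (.node 0 (.node 2 (.node 2 .nil .nil) .nil) (.node 1 (.node 1 (.node 0 .nil .nil) (.node 2 (.node 0 .nil (.node 1 .nil .nil)) .nil)) (.node 2 (.node 0 (.node 2 .nil .nil) (.node 1 (.node 0 .nil .nil) .nil)) .nil))) (.node 2 (.node 0 (.node 0 .nil (.node 2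 (.node 2 .nil .nil) .nil)) (.node 1 (.node 0 (.node 2 .nil .nil) (.node 1 (.node 2 .nil .nil) (.node 2 .nil .nil))) .nil)) .nil))) (.node 1 (.node 0 (.node 0 (.node 2 (.node 2 .nil .nil) .nil) (.node 1 (.node 0 (.node 0 .nil .nil) (.node 1 (.node 2 (.node 1 .nil .nil) .nil) .nil)) (.node 2 (.node 2 (.node 0 .nil .nil) .nil) .nil))) (.node 1 (.node 0 (.node 1 (.node 1 .nil (.node 2 (.node 1 .nil .nil) .nil)) (.node 2 .nil .nil)) (.node 1 (.node 0 (.node 2 .nil .nil) (.node 2 (.node 0 .nil .nil) .nil)) (.node 2 (.node 0 (.node 0 .nil .nil) (.node 1 .nil .nil)) .nil))) (.node 2 (.node 0 (.node 2 (.node 2 .nil .nil) .nil) (.node 1 (.node 0 (.node 2 .nil .nil) (.node 1 .nil (.node 2 (.node 1 .nil .nil) .nil))) (.node 2 (.node 1 .nil (.node 2 (.node 2 .nil .nil) .nil)) .nil))) .nil))) (.node 2 (.node 0 (.node 0 (.node 0 .nil (.node 2 (.node 2 .nil .nil) .nil)) (.node 1 (.node 1 .nil (.node 2 (.node 2 .nil .nil) .nil))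 (.node 2 (.node 0 (.node 1 .nil .nil) (.node 1 (.node 2 .nil .nil) .nil)) .nil))) (.node 1 (.node 0 (.node 0 (.node 0 .nil (.node 2 .nil .nil)) (.node 1 (.node 1 .nil .nil) .nil)) (.node 1 (.node 0 (.node 1 .nil (.node 2 .nil .nil)) (.node 2 .nil .nil)) (.node 2 (.node 0 (.node 1 .nil (.node 2 .nil .nil)) (.node 2 (.node 0 (.node 1 .nil .nil) .nil) .nil)) .nil))) (.node 2 (.node 0 (.node 0 (.node 1 .nil .nil) (.node 1 (.node 0 .nil (.node 2 .nil .nil)) (.node 2 .nil .nil))) (.node 1 (.node 1 (.node 0 .nil .nil) (.node 2 .nil .nil)) (.node 2 (.node 0 .nil (.node 2 (.node 1 .nil (.node 2 .nil .nil)) .nil)) .nil))) .nil))) .nil))) (.node 2 (.node 0 (.node 0 (.node 0 (.node 0 .nil (.node 2 (.node 0 .nil (.node 1 .nil (.node 2 .nil .nil))) .nil)) (.node 1 (.node 0 (.node 0 .nil .nil) .nil) (.node 2 (.node 0 (.node 0 .nil .nil) (.node 1 .nil .nil)) .nil))) (.node 1 (.node 0 (.node 0 (.node 2 .nil .nil) (.node 1 (.node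 0 .nil (.node 1 .nil (.node 2 .nil .nil))) .nil)) (.node 1 (.node 0 (.node 0 .nil .nil) (.node 1 (.node 1 .nil .nil) .nil)) (.node 2 (.node 0 .nil (.node 2 (.node 1 .nil .nil) .nil)) .nil))) (.node 2 (.node 0 (.node 0 (.node 0 .nil (.node 1 .nil .nil)) .nil) (.node 1 (.node 2 .nil .nil) (.node 2 (.node 0 (.node 1 .nil .nil) (.node 1 .nil .nil)) .nil))) .nil))) (.node 1 (.node 0 (.node 1 (.node 0 .nil (.node 1 .nil .nil)) (.node 2 .nil .nil)) (.node 1 (.node 0 (.node 0 .nil .nil) (.node 1 (.node 0 .nil (.node 1 (.node 2 .nil .nil) (.node 2 (.node 0 .nil .nil) .nil))) (.node 2 (.node 0 .nil (.node 1 (.node 0 .nil .nil) (.node 2 (.node 0 .nil .nil) .nil))) .nil))) (.node 2 (.node 0 (.node 1 (.node 2 .nil .nil) .nil) (.node 1 (.node 0 (.node 2 .nil .nil) .nil) (.node 2 (.node 0 .nil (.node 1 .nil .nil)) .nil))) .nil))) (.node 2 (.node 0 (.node 0 (.node 1 .nil .nil) (.node 1 (.node 0 .nil (.node 1 .nil (.node 2 .nil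 .nil))) (.node 2 (.node 0 (.node 0 .nil (.node 1 .nil .nil)) (.node 1 (.node 0 .nil .nil) .nil)) .nil))) (.node 2 (.node 0 (.node 0 (.node 1 .nil .nil) .nil) (.node 1 (.node 0 (.node 2 .nil .nil) (.node 2 .nil .nil)) (.node 2 (.node 0 .nil (.node 1 .nil (.node 2 .nil .nil))) .nil))) .nil)) .nil))) .nil))),
   448⟩

/-- All classes. -/
def classes : List Cls := [cls0, cls1, cls2, cls3]

/-- Value and size of each class. -/
def table : List (ℕ × ℕ) := [(4096, 1), (0, 30), (256, 280), (16, 448)]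

theorem cert_ok : suborbOk gens base classes 16777214 = true := by decide +kernel

theorem table_ok : classes.map (fun c => (crossL base c.root, c.size)) = table := by decide +kernel

end CfsgLib.Golay.Suborb.OctOct
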