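/-
Suborbit certificate OctSex.
-/
import Cfsg.Agent.Golay.Suborb

set_option autoImplicit false
set_option maxRecDepth 20000

namespace CfsgLib.Golay.Suborb.OctSex

/-- Masks of the base family. -/
def base : List ℕ := [8391797]

/-- Elements of the group fixing the base family. -/
def gens : List (List ℕ) :=
  [[5, 12, 4, 17, 0, 11, 23, 16, 18, 14, 2, 10, 8, 19, 13, 9, 20, 21, 1, 22, 3, 15, 7, 6],
   [2, 13, 5, 15, 10, 23, 6, 20, 14, 1, 11, 0, 21, 22, 17, 3, 19, 9, 7, 18, 8, 16, 12, 4],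
   [0, 14, 5, 12, 4, 6, 10, 22, 3, 18, 11, 2, 1, 9, 8, 7, 16, 21, 17, 15, 19, 13, 20, 23]]

/-- Class 0. -/
def cls0 : Cls :=
  ⟨[53, 200960, 786946, 2121856, 5275656, 8391744],
   (.node 0 (.node 0 (.node 0 (.node 0 .nil .nil) (.node 1 .nil (.node 2 (.node 1 .nil (.node 2 .nil .nil)) .nil))) (.node 1 (.node 0 (.node 1 .nil .nil) (.node 1 .nil .nil)) (.node 2 (.node 0 (.node 0 .nil .nil) (.node 1 .nil (.node 2 (.node 0 .nil .nil) .nil))) .nil))) (.node 1 (.node 0 (.node 0 .nil (.node 1 .nil (.node 2 .nil .nil))) (.node 1 (.node 0 (.node 2 .nil .nil) .nil) (.node 2 .nil .nil))) (.node 2 (.node 0 (.node 0 .nil (.node 2 .nil .nil)) (.node 2 (.node 0 .nil (.node 2 .nil .nil)) .nil)) .nil))),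
   35⟩

/-- Class 1. -/
def cls1 : Cls :=
  ⟨[15, 5264, 622848, 3416064, 4196928, 8536096],
   (.node 0 (.node 0 (.node 0 (.node 0 (.node 0 (.node 0 (.node 1 .nil .nil) (.node 1 (.node 1 .nil .nil) (.node 2 (.node 2 .nil .nil) .nil))) (.node 1 (.node 0 .nil (.node 1 (.node 0 .nil (.node 1 .nil .nil)) .nil)) .nil)) (.node 1 (.node 0 (.node 0 .nil (.node 2 (.node 2 .nil .nil) .nil)) (.node 1 (.node 1 (.node 0 .nil .nil) (.node 2 (.node 0 .nil .nil) .nil)) (.node 2 (.node 0 (.node 0 (.node 0 .nil .nil) (.node 1 .nil .nil)) (.node 1 .nil (.node 2 (.node 0 .nil .nil) .nil))) .nil))) .nil)) (.node 1 (.node 0 (.node 0 (.node 0 (.node 0 (.node 1 .nil .nil) .nil) (.node 1 .nil (.node 2 (.node 2 .nil .nil) .nil))) (.node 1 (.node 0 .nil (.node 1 (.node 2 .nil .nil) (.node 2 (.node 2 .nil .nil) .nil))) (.node 2 (.node 1 .nil .nil) .nil))) (.node 1 (.node 0 (.node 1 (.node 2 .nil .nil) .nil) (.node 1 (.node 0 (.node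 1 .nil .nil) .nil) (.node 2 (.node 0 (.node 1 .nil (.node 2 (.node 1 .nil .nil) .nil)) (.node 1 (.node 1 (.node 0 .nil .nil) .nil) (.node 2 (.node 0 .nil (.node 1 .nil (.node 2 .nil .nil))) .nil))) .nil))) (.node 2 (.node 0 (.node 0 .nil (.node 1 (.node 2 .nil .nil) .nil)) (.node 1 (.node 0 (.node 0 .nil .nil) .nil) (.node 2 (.node 0 .nil (.node 1 (.node 0 .nil .nil) .nil)) .nil))) .nil))) (.node 2 (.node 0 (.node 0 (.node 0 (.node 2 .nil .nil) (.node 1 (.node 0 .nil .nil) (.node 2 (.node 0 (.node 0 .nil .nil) .nil) .nil))) (.node 1 (.node 1 (.node 1 .nil (.node 2 .nil .nil)) (.node 2 (.node 0 .nil (.node 1 .nil .nil)) .nil)) .nil)) (.node 1 (.node 0 (.node 0 .nil (.node 1 .nil (.node 2 .nil .nil))) (.node 1 (.node 0 .nil (.node 1 (.node 0 .nil .nil) (.node 2 (.node 1 .nil .nil) .nil))) (.node 2 (.node 1 (.node 0 .nil (.node 1 (.node 1 .nil .nil) (.node 2 .nil .nil))) (.node 2 (.node 1 .nil (.node 2 .nil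 .nil)) .nil)) .nil))) (.node 2 (.node 0 (.node 0 (.node 0 (.node 0 .nil .nil) (.node 2 .nil .nil)) (.node 1 .nil (.node 2 (.node 1 .nil .nil) .nil))) (.node 1 (.node 0 .nil (.node 1 (.node 0 .nil .nil) (.node 2 (.node 0 .nil (.node 2 (.node 2 .nil .nil) .nil)) .nil))) (.node 2 (.node 0 (.node 0 .nil (.node 1 .nil .nil)) (.node 1 (.node 1 .nil .nil) (.node 2 .nil .nil))) .nil))) .nil))) .nil))) (.node 1 (.node 0 (.node 0 (.node 0 (.node 0 (.node 1 .nil (.node 2 .nil .nil)) (.node 2 (.node 1 .nil (.node 2 .nil .nil)) .nil)) (.node 1 (.node 1 (.node 0 .nil .nil) .nil) (.node 2 (.node 0 (.node 0 .nil .nil) (.node 1 .nil .nil)) .nil))) (.node 1 (.node 0 (.node 0 (.node 2 (.node 2 .nil .nil) .nil) (.node 1 (.node 0 .nil .nil) (.node 2 (.node 1 .nil .nil) .nil))) (.node 1 (.node 0 (.node 0 .nil (.node 1 .nil (.node 2 .nil .nil))) (.node 1 .nil (.node 2 .nil .nil))) (.node 2 (.node 0 (.node 0 .nil .nil) .nil) .nil)))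 (.node 2 (.node 0 (.node 2 (.node 0 (.node 0 .nil .nil) .nil) .nil) (.node 1 (.node 0 .nil (.node 1 .nil (.node 2 (.node 0 .nil (.node 1 .nil .nil)) .nil))) (.node 2 .nil .nil))) .nil))) (.node 1 (.node 0 (.node 0 (.node 1 (.node 1 .nil (.node 2 .nil .nil)) (.node 2 .nil .nil)) (.node 2 (.node 0 (.node 1 .nil (.node 2 .nil .nil)) (.node 2 (.node 0 .nil (.node 1 .nil .nil)) .nil)) .nil)) (.node 1 (.node 0 (.node 2 (.node 0 .nil .nil) .nil) (.node 1 (.node 1 (.node 2 .nil .nil) (.node 2 (.node 2 .nil .nil) .nil)) (.node 2 (.node 2 (.node 2 .nil .nil) .nil) .nil))) (.node 2 (.node 0 (.node 1 .nil (.node 2 (.node 1 (.node 0 .nil .nil) (.node 2 .nil .nil)) .nil)) (.node 1 (.node 2 .nil .nil) (.node 2 .nil .nil))) .nil))) (.node 2 (.node 0 (.node 1 (.node 1 (.node 1 .nil .nil) (.node 2 (.node 0 .nil .nil) .nil)) (.node 2 (.node 1 .nil (.node 2 .nil .nil)) .nil)) (.node 1 (.node 0 (.node 0 .nil .nil) (.node 1 (.node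 0 (.node 1 .nil (.node 2 .nil .nil)) (.node 1 .nil (.node 2 .nil .nil))) (.node 2 (.node 0 (.node 1 .nil .nil) (.node 1 (.node 1 .nil .nil) (.node 2 (.node 1 .nil .nil) .nil))) .nil))) (.node 2 (.node 0 (.node 0 (.node 1 .nil (.node 2 .nil .nil)) .nil) (.node 1 (.node 0 (.node 0 .nil (.node 2 .nil .nil)) (.node 1 .nil (.node 2 (.node 0 .nil (.node 2 .nil .nil)) .nil))) (.node 2 (.node 0 (.node 2 .nil .nil) (.node 1 (.node 0 .nil (.node 1 .nil .nil)) .nil)) .nil))) .nil))) .nil))) (.node 2 (.node 0 (.node 0 (.node 0 (.node 0 .nil (.node 1 .nil (.node 2 .nil .nil))) (.node 1 (.node 0 (.node 2 .nil .nil) (.node 2 (.node 0 .nil (.node 1 .nil .nil)) .nil)) (.node 2 (.node 0 (.node 2 .nil .nil) (.node 2 (.node 1 .nil .nil) .nil)) .nil))) (.node 1 (.node 0 (.node 1 (.node 0 .nil .nil) (.node 2 (.node 1 .nil .nil) .nil)) (.node 1 (.node 1 (.node 2 .nil .nil) (.node 2 (.node 0 .nil .nil) .nil)) (.node 2 (.node 0 .nil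 (.node 2 (.node 0 .nil (.node 2 .nil .nil)) .nil)) .nil))) (.node 2 (.node 0 (.node 0 (.node 1 .nil .nil) (.node 2 .nil .nil)) (.node 1 (.node 0 .nil (.node 1 .nil .nil)) .nil)) .nil))) (.node 1 (.node 0 (.node 0 (.node 0 .nil (.node 2 (.node 1 .nil (.node 2 .nil .nil)) .nil)) (.node 1 (.node 0 .nil .nil) (.node 2 (.node 1 .nil (.node 2 .nil .nil)) .nil))) (.node 1 (.node 0 (.node 0 (.node 1 .nil .nil) (.node 1 (.node 2 (.node 0 .nil .nil) .nil) .nil)) (.node 1 (.node 0 .nil (.node 1 .nil .nil)) (.node 2 (.node 0 .nil (.node 1 .nil (.node 2 .nil .nil))) .nil))) (.node 2 (.node 0 (.node 0 (.node 1 (.node 1 .nil .nil) .nil) (.node 1 .nil (.node 2 (.node 0 .nil .nil) .nil))) .nil) .nil))) (.node 2 (.node 0 (.node 0 (.node 2 (.node 0 .nil .nil) .nil) (.node 1 (.node 1 (.node 2 .nil .nil) (.node 2 (.node 0 .nil .nil) .nil)) (.node 2 (.node 0 (.node 0 .nil .nil) .nil) .nil))) (.node 2 (.node 0 (.node 1 (.node 0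 .nil (.node 1 .nil .nil)) (.node 2 (.node 0 .nil (.node 1 .nil .nil)) .nil)) (.node 2 .nil .nil)) .nil)) .nil))) .nil))) (.node 1 (.node 0 (.node 0 (.node 0 (.node 0 .nil (.node 2 (.node 0 .nil (.node 2 (.node 1 .nil (.node 2 .nil .nil)) .nil)) .nil)) (.node 1 (.node 0 (.node 1 .nil (.node 2 (.node 2 .nil .nil) .nil)) (.node 1 (.node 0 (.node 1 .nil .nil) .nil) (.node 2 (.node 2 (.node 2 .nil .nil) .nil) .nil))) (.node 2 (.node 0 .nil (.node 1 (.node 0 (.node 2 .nil .nil) (.node 1 .nil .nil)) (.node 2 (.node 0 .nil .nil) .nil))) .nil))) (.node 1 (.node 0 (.node 0 (.node 0 (.node 1 .nil .nil) (.node 1 .nil .nil)) .nil) (.node 1 (.node 0 (.node 2 .nil .nil) (.node 1 (.node 2 .nil .nil) (.node 2 (.node 0 .nil (.node 2 .nil .nil)) .nil))) (.node 2 (.node 0 (.node 2 .nil .nil) (.node 1 (.node 0 .nil (.node 2 .nil .nil)) (.node 2 (.node 0 .nil (.node 2 .nil .nil)) .nil))) .nil))) (.node 2 (.node 0 (.node 1 (.node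 0 (.node 0 .nil .nil) .nil) (.node 2 (.node 1 (.node 0 .nil .nil) .nil) .nil)) (.node 1 (.node 1 (.node 1 (.node 2 .nil .nil) (.node 2 .nil .nil)) (.node 2 .nil .nil)) (.node 2 (.node 0 (.node 0 .nil (.node 2 (.node 0 .nil .nil) .nil)) (.node 1 (.node 0 .nil (.node 2 .nil .nil)) (.node 2 (.node 0 (.node 1 .nil .nil) .nil) .nil))) .nil))) .nil))) (.node 1 (.node 0 (.node 0 (.node 0 .nil (.node 2 (.node 2 (.node 2 .nil .nil) .nil) .nil)) (.node 1 (.node 0 (.node 1 .nil (.node 2 (.node 0 .nil (.node 2 (.node 0 .nil .nil) .nil)) .nil)) (.node 1 (.node 2 .nil .nil) (.node 2 (.node 0 (.node 2 .nil .nil) (.node 1 .nil (.node 2 (.node 2 .nil .nil) .nil))) .nil))) (.node 2 (.node 0 (.node 1 .nil (.node 2 (.node 0 .nil (.node 2 .nil .nil)) .nil)) (.node 1 (.node 0 (.node 0 .nil .nil) (.node 2 (.node 1 .nil .nil) .nil)) (.node 2 (.node 0 (.node 2 .nil .nil) (.node 2 (.node 1 (.node 1 .nil .nil) .nil) .nil)) .nil)))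 .nil))) (.node 1 (.node 0 (.node 1 (.node 0 (.node 0 .nil .nil) (.node 1 .nil .nil)) (.node 2 (.node 0 .nil (.node 1 (.node 0 .nil (.node 1 .nil .nil)) (.node 2 (.node 0 .nil .nil) .nil))) .nil)) (.node 1 (.node 0 (.node 0 (.node 1 .nil (.node 2 .nil .nil)) (.node 1 (.node 1 .nil .nil) (.node 2 .nil .nil))) (.node 1 (.node 0 .nil (.node 2 .nil .nil)) (.node 2 (.node 0 .nil .nil) .nil))) (.node 2 (.node 1 (.node 1 .nil .nil) (.node 2 (.node 0 .nil .nil) .nil)) .nil))) (.node 2 (.node 0 (.node 0 (.node 0 .nil .nil) (.node 1 (.node 0 (.node 0 .nil .nil) (.node 1 (.node 1 .nil .nil) (.node 2 (.node 0 .nil (.node 2 .nil .nil)) .nil))) (.node 2 (.node 0 .nil (.node 2 (.node 0 .nil (.node 1 .nil .nil)) .nil)) .nil))) (.node 1 (.node 0 (.node 1 .nil .nil) (.node 1 .nil .nil)) (.node 2 (.node 0 (.node 0 (.node 0 .nil .nil) (.node 1 .nil (.node 2 (.node 2 .nil .nil) .nil))) (.node 1 (.node 0 .nil (.node 1 (.node 2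 .nil .nil) .nil)) (.node 2 (.node 1 (.node 2 .nil .nil) .nil) .nil))) .nil))) .nil))) (.node 2 (.node 0 (.node 0 (.node 0 (.node 0 .nil .nil) .nil) (.node 1 (.node 0 (.node 0 .nil (.node 1 .nil .nil)) (.node 1 (.node 2 (.node 0 .nil .nil) .nil) (.node 2 (.node 1 (.node 1 .nil .nil) (.node 2 (.node 2 .nil .nil) .nil)) .nil))) (.node 2 (.node 0 (.node 1 .nil (.node 2 .nil .nil)) (.node 1 (.node 2 (.node 2 .nil .nil) .nil) (.node 2 (.node 0 .nil (.node 2 .nil .nil)) .nil))) .nil))) (.node 1 (.node 0 (.node 0 (.node 1 .nil (.node 2 .nil .nil)) (.node 2 (.node 0 .nil (.node 1 .nil .nil)) .nil)) (.node 1 (.node 0 (.node 0 (.node 0 .nil .nil) (.node 1 (.node 1 .nil .nil) (.node 2 .nil .nil))) (.node 1 (.node 0 (.node 0 .nil .nil) .nil) (.node 2 (.node 2 (.node 1 .nil (.node 2 .nil .nil)) .nil) .nil))) (.node 2 (.node 0 (.node 0 .nil (.node 1 .nil .nil)) (.node 1 (.node 0 (.node 0 .nil .nil) .nil) (.node 2 (.node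 2 (.node 1 .nil .nil) .nil) .nil))) .nil))) (.node 2 (.node 0 (.node 0 (.node 1 .nil .nil) (.node 2 (.node 1 .nil .nil) .nil)) (.node 1 (.node 0 .nil (.node 1 (.node 1 (.node 0 .nil .nil) .nil) .nil)) (.node 2 (.node 0 (.node 0 .nil (.node 1 .nil .nil)) (.node 1 (.node 1 .nil (.node 2 .nil .nil)) (.node 2 (.node 1 .nil .nil) .nil))) .nil))) .nil))) .nil))) (.node 2 (.node 0 (.node 0 (.node 0 (.node 0 (.node 0 (.node 1 .nil .nil) (.node 1 (.node 0 .nil .nil) .nil)) (.node 1 (.node 0 (.node 1 .nil .nil) (.node 2 .nil .nil)) (.node 2 (.node 0 (.node 0 .nil .nil) (.node 1 .nil (.node 2 .nil .nil))) .nil))) (.node 1 (.node 0 (.node 0 .nil (.node 1 .nil .nil)) (.node 1 (.node 2 .nil .nil) (.node 2 (.node 0 .nil (.node 1 (.node 0 .nil (.node 1 .nil .nil)) (.node 2 .nil .nil))) .nil))) (.node 2 (.node 0 (.node 1 (.node 1 .nil .nil) .nil) (.node 1 (.node 0 (.node 0 .nil (.node 2 .nil .nil)) (.node 1 .nil .nil)) (.node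 2 (.node 1 (.node 2 .nil .nil) .nil) .nil))) .nil))) (.node 1 (.node 0 (.node 1 .nil (.node 2 (.node 1 .nil (.node 2 .nil .nil)) .nil)) (.node 2 (.node 0 (.node 2 .nil .nil) (.node 1 (.node 2 (.node 1 .nil .nil) .nil) (.node 2 .nil .nil))) .nil)) (.node 2 (.node 0 (.node 0 (.node 1 (.node 2 .nil .nil) .nil) (.node 1 (.node 2 (.node 0 .nil .nil) .nil) (.node 2 (.node 0 .nil (.node 1 .nil .nil)) .nil))) (.node 1 (.node 1 (.node 0 .nil (.node 2 (.node 2 .nil .nil) .nil)) (.node 2 (.node 0 .nil .nil) .nil)) (.node 2 (.node 0 (.node 1 (.node 0 .nil .nil) (.node 2 (.node 2 .nil .nil) .nil)) (.node 1 (.node 1 .nil .nil) (.node 2 (.node 0 .nil (.node 1 .nil .nil)) .nil))) .nil))) .nil))) (.node 1 (.node 0 (.node 0 (.node 0 .nil (.node 2 (.node 0 (.node 1 .nil .nil) (.node 2 .nil .nil)) .nil)) (.node 1 (.node 0 (.node 0 .nil (.node 1 .nil (.node 2 (.node 2 .nil .nil) .nil))) .nil) (.node 2 (.node 0 (.node 0 .nil (.node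 2 .nil .nil)) (.node 1 (.node 0 .nil .nil) .nil)) .nil))) (.node 1 (.node 0 (.node 0 (.node 0 .nil (.node 1 (.node 0 .nil .nil) .nil)) (.node 1 (.node 1 (.node 2 .nil .nil) (.node 2 .nil .nil)) (.node 2 (.node 0 (.node 2 .nil .nil) (.node 2 (.node 0 .nil .nil) .nil)) .nil))) (.node 2 (.node 0 (.node 1 (.node 2 .nil .nil) (.node 2 .nil .nil)) (.node 1 (.node 0 .nil (.node 1 (.node 1 .nil .nil) .nil)) .nil)) .nil)) (.node 2 (.node 0 (.node 0 (.node 1 .nil .nil) .nil) (.node 1 (.node 0 (.node 1 (.node 1 .nil .nil) (.node 2 (.node 2 .nil .nil) .nil)) (.node 1 (.node 0 .nil (.node 1 .nil (.node 2 (.node 2 .nil .nil) .nil))) (.node 2 (.node 2 .nil .nil) .nil))) (.node 2 (.node 0 (.node 0 (.node 1 .nil .nil) (.node 1 .nil .nil)) (.node 1 (.node 1 .nil (.node 2 .nil .nil)) .nil)) .nil))) .nil))) (.node 2 (.node 0 (.node 0 (.node 0 (.node 1 (.node 2 .nil .nil) .nil) (.node 1 (.node 0 .nil (.node 1 .nil .nil)) (.node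 2 (.node 0 .nil (.node 1 .nil (.node 2 (.node 0 .nil (.node 2 .nil .nil)) .nil))) .nil))) (.node 1 (.node 0 .nil (.node 1 .nil (.node 2 .nil .nil))) (.node 2 (.node 0 (.node 1 .nil .nil) (.node 1 (.node 1 .nil .nil) (.node 2 (.node 0 .nil (.node 1 .nil (.node 2 .nil .nil))) .nil))) .nil))) (.node 1 (.node 0 (.node 0 (.node 0 .nil .nil) .nil) (.node 1 (.node 1 (.node 0 .nil .nil) (.node 2 (.node 0 .nil (.node 1 .nil .nil)) .nil)) (.node 2 (.node 0 (.node 0 .nil (.node 1 .nil .nil)) .nil) .nil))) (.node 2 (.node 0 (.node 0 .nil (.node 1 (.node 1 .nil .nil) (.node 2 (.node 1 .nil (.node 2 .nil .nil)) .nil))) (.node 2 (.node 0 (.node 0 .nil (.node 2 .nil .nil)) (.node 1 .nil .nil)) .nil)) .nil))) .nil))) .nil))),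
   840⟩

/-- Class 2. -/
def cls2 : Cls :=
  ⟨[23, 5256, 786976, 1065280, 2263040, 12656640],
   (.node 0 (.node 0 (.node 0 (.node 0 (.node 0 (.node 0 (.node 0 .nil (.node 1 .nil .nil)) (.node 1 (.node 2 .nil .nil) (.node 2 (.node 1 .nil .nil) .nil))) (.node 2 (.node 0 (.node 2 .nil .nil) (.node 1 (.node 0 (.node 0 .nil .nil) (.node 1 (.node 1 .nil .nil) (.node 2 .nil .nil))) (.node 2 .nil .nil))) .nil)) (.node 1 (.node 1 (.node 0 .nil (.node 1 .nil (.node 2 (.node 0 (.node 1 .nil .nil) (.node 1 .nil .nil)) .nil))) .nil) (.node 2 (.node 0 (.node 0 .nil (.node 1 (.node 0 .nil .nil) (.node 2 .nil .nil))) (.node 1 (.node 0 (.node 0 .nil .nil) (.node 1 (.node 0 .nil (.node 2 .nil .nil)) (.node 2 (.node 0 .nil (.node 1 .nil (.node 2 (.node 1 .nil .nil) .nil))) .nil))) (.node 2 (.node 0 (.node 0 .nil (.node 2 (.node 1 .nil .nil) .nil)) (.node 2 (.node 2 .nil .nil) .nil)) .nil))) .nil))) (.node 1 (.node 0 (.node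 0 (.node 2 (.node 0 .nil (.node 1 .nil .nil)) .nil) (.node 1 (.node 0 (.node 1 .nil (.node 2 .nil .nil)) (.node 1 (.node 1 .nil .nil) .nil)) (.node 2 (.node 1 (.node 0 (.node 2 .nil .nil) .nil) (.node 2 (.node 1 .nil .nil) .nil)) .nil))) (.node 1 (.node 0 (.node 0 (.node 0 .nil (.node 1 .nil .nil)) (.node 1 (.node 0 (.node 0 .nil .nil) (.node 1 .nil .nil)) (.node 2 (.node 1 .nil .nil) .nil))) (.node 1 (.node 0 (.node 1 .nil .nil) (.node 1 (.node 1 .nil .nil) (.node 2 (.node 1 .nil .nil) .nil))) (.node 2 (.node 1 .nil (.node 2 (.node 0 .nil .nil) .nil)) .nil))) (.node 2 (.node 0 (.node 0 (.node 1 .nil .nil) (.node 1 (.node 0 .nil .nil) (.node 2 .nil .nil))) (.node 1 (.node 0 (.node 0 .nil .nil) (.node 2 (.node 1 .nil .nil) .nil)) (.node 2 (.node 0 (.node 0 .nil (.node 2 (.node 2 .nil .nil) .nil)) (.node 2 (.node 1 .nil .nil) .nil)) .nil))) .nil))) (.node 2 (.node 0 (.node 0 (.node 0 (.node 0 .nil (.node 1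 .nil (.node 2 .nil .nil))) (.node 1 (.node 0 .nil (.node 2 (.node 2 .nil .nil) .nil)) (.node 2 (.node 0 .nil .nil) .nil))) (.node 1 (.node 0 (.node 1 (.node 2 .nil .nil) .nil) (.node 1 (.node 1 .nil (.node 2 .nil .nil)) .nil)) (.node 2 (.node 0 (.node 0 .nil (.node 1 .nil .nil)) (.node 2 (.node 0 .nil (.node 1 (.node 0 .nil .nil) .nil)) .nil)) .nil))) (.node 1 (.node 0 (.node 0 (.node 2 .nil .nil) (.node 1 (.node 0 .nil (.node 1 .nil (.node 2 .nil .nil))) (.node 2 .nil .nil))) (.node 1 (.node 0 (.node 1 .nil .nil) (.node 1 .nil (.node 2 .nil .nil))) (.node 2 (.node 0 (.node 2 .nil .nil) (.node 1 (.node 0 .nil (.node 2 .nil .nil)) (.node 2 .nil .nil))) .nil))) (.node 2 (.node 0 (.node 1 (.node 2 .nil .nil) (.node 2 (.node 0 .nil (.node 1 (.node 0 .nil (.node 2 .nil .nil)) .nil)) .nil)) (.node 1 (.node 1 .nil (.node 2 .nil .nil)) (.node 2 (.node 0 (.node 0 .nil (.node 2 .nil .nil)) (.node 1 (.node 0 .nil .nil)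 .nil)) .nil))) .nil))) .nil))) (.node 1 (.node 0 (.node 0 (.node 0 (.node 1 .nil (.node 2 (.node 0 .nil (.node 2 .nil .nil)) .nil)) (.node 1 (.node 0 .nil (.node 1 (.node 0 .nil (.node 1 .nil .nil)) (.node 2 (.node 1 .nil .nil) .nil))) (.node 2 (.node 0 (.node 0 .nil .nil) (.node 2 (.node 2 .nil .nil) .nil)) .nil))) (.node 1 (.node 0 (.node 0 .nil (.node 1 .nil (.node 2 (.node 0 .nil (.node 1 .nil .nil)) .nil))) (.node 1 (.node 0 (.node 1 .nil .nil) (.node 1 (.node 2 .nil .nil) (.node 2 (.node 1 (.node 2 .nil .nil) .nil) .nil))) (.node 2 (.node 0 .nil .nil) .nil))) (.node 2 (.node 0 (.node 1 .nil (.node 2 .nil .nil)) (.node 1 (.node 2 (.node 2 .nil .nil) .nil) (.node 2 (.node 0 (.node 0 .nil (.node 1 .nil .nil)) (.node 1 (.node 0 .nil (.node 2 .nil .nil)) (.node 2 .nil .nil))) .nil))) .nil))) (.node 1 (.node 0 (.node 0 (.node 1 (.node 0 .nil .nil) (.node 2 .nil .nil)) (.node 1 (.node 1 .nil (.node 2 (.node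 0 .nil .nil) .nil)) (.node 2 (.node 1 (.node 1 .nil .nil) (.node 2 .nil .nil)) .nil))) (.node 1 (.node 0 (.node 0 (.node 0 .nil .nil) (.node 2 .nil .nil)) (.node 1 (.node 1 (.node 2 .nil .nil) .nil) (.node 2 (.node 0 (.node 2 .nil .nil) (.node 2 (.node 0 .nil .nil) .nil)) .nil))) (.node 2 (.node 0 .nil (.node 1 (.node 0 (.node 0 .nil .nil) .nil) (.node 2 (.node 0 (.node 0 .nil (.node 1 .nil .nil)) (.node 1 (.node 1 .nil .nil) (.node 2 (.node 0 .nil .nil) .nil))) .nil))) .nil))) (.node 2 (.node 0 (.node 0 (.node 0 .nil (.node 1 .nil (.node 2 (.node 2 .nil .nil) .nil))) (.node 1 (.node 0 (.node 0 (.node 2 .nil .nil) (.node 2 .nil .nil)) (.node 1 (.node 1 .nil .nil) (.node 2 .nil .nil))) .nil)) (.node 1 (.node 0 (.node 2 .nil .nil) .nil) (.node 2 (.node 0 (.node 1 .nil (.node 2 (.node 1 .nil .nil) .nil)) (.node 1 (.node 0 .nil (.node 1 .nil (.node 2 (.node 0 .nil (.node 1 .nil (.node 2 .nil .nil))) .nil))) (.node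 2 (.node 0 .nil .nil) .nil))) .nil))) .nil))) (.node 2 (.node 0 (.node 0 (.node 0 (.node 0 (.node 0 .nil .nil) (.node 1 .nil .nil)) (.node 1 (.node 1 .nil (.node 2 (.node 0 .nil (.node 2 .nil .nil)) .nil)) (.node 2 (.node 0 (.node 2 .nil .nil) (.node 1 .nil (.node 2 (.node 0 (.node 2 .nil .nil) (.node 1 .nil .nil)) .nil))) .nil))) (.node 1 (.node 0 (.node 0 (.node 0 .nil .nil) (.node 2 (.node 2 .nil .nil) .nil)) (.node 2 (.node 0 (.node 2 .nil .nil) (.node 1 (.node 2 .nil .nil) (.node 2 (.node 1 .nil (.node 2 .nil .nil)) .nil))) .nil)) .nil)) (.node 1 (.node 0 (.node 0 (.node 0 (.node 1 .nil .nil) (.node 1 .nil (.node 2 .nil .nil))) (.node 1 (.node 0 (.node 0 .nil .nil) (.node 2 .nil .nil)) (.node 2 (.node 0 (.node 2 .nil .nil) (.node 1 (.node 0 .nil .nil) (.node 2 (.node 0 .nil .nil) .nil))) .nil))) (.node 1 (.node 0 (.node 0 .nil .nil) (.node 1 (.node 0 .nil .nil) (.node 2 (.node 0 (.node 0 .nil (.node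 1 .nil .nil)) .nil) .nil))) (.node 2 (.node 0 (.node 1 .nil .nil) (.node 1 (.node 0 .nil .nil) (.node 2 (.node 0 (.node 2 .nil .nil) (.node 2 (.node 1 .nil .nil) .nil)) .nil))) .nil))) (.node 2 (.node 0 (.node 0 (.node 0 (.node 1 (.node 2 .nil .nil) .nil) (.node 1 (.node 1 .nil (.node 2 .nil .nil)) .nil)) (.node 1 (.node 0 (.node 2 .nil .nil) (.node 1 (.node 2 .nil .nil) (.node 2 (.node 0 .nil (.node 2 .nil .nil)) .nil))) .nil)) (.node 1 (.node 1 (.node 0 .nil (.node 1 (.node 0 .nil .nil) (.node 2 (.node 1 .nil (.node 2 (.node 1 .nil .nil) .nil)) .nil))) (.node 2 (.node 0 .nil (.node 1 (.node 0 .nil .nil) .nil)) .nil)) (.node 2 (.node 1 (.node 0 .nil (.node 1 (.node 2 .nil .nil) .nil)) (.node 2 (.node 0 .nil (.node 1 .nil .nil)) .nil)) .nil))) .nil))) .nil))) (.node 1 (.node 0 (.node 0 (.node 0 (.node 1 (.node 0 (.node 1 .nil .nil) (.node 2 (.node 0 .nil (.node 2 .nil .nil)) .nil)) (.node 2 (.node 0 (.node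 2 .nil .nil) (.node 1 .nil (.node 2 .nil .nil))) .nil)) (.node 1 (.node 0 (.node 2 (.node 2 .nil .nil) .nil) (.node 1 (.node 0 (.node 0 .nil .nil) (.node 1 .nil .nil)) .nil)) (.node 2 (.node 0 (.node 1 .nil (.node 2 .nil .nil)) (.node 1 (.node 0 (.node 0 .nil (.node 1 .nil .nil)) .nil) (.node 2 (.node 0 (.node 2 .nil .nil) (.node 1 .nil (.node 2 .nil .nil))) .nil))) .nil))) (.node 1 (.node 0 (.node 0 (.node 1 (.node 2 .nil .nil) (.node 2 (.node 1 .nil .nil) .nil)) (.node 1 (.node 0 .nil (.node 1 .nil .nil)) (.node 2 (.node 2 (.node 0 .nil .nil) .nil) .nil))) (.node 1 (.node 0 (.node 0 (.node 0 .nil (.node 1 .nil .nil)) .nil) (.node 1 .nil .nil)) (.node 2 (.node 0 (.node 1 (.node 2 .nil .nil) (.node 2 .nil .nil)) (.node 2 (.node 1 .nil .nil) .nil)) .nil))) (.node 2 (.node 0 (.node 0 (.node 0 (.node 0 .nil (.node 2 .nil .nil)) (.node 2 (.node 2 .nil .nil) .nil)) (.node 1 (.node 2 .nil .nil) (.node 2 (.node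 0 (.node 1 .nil .nil) .nil) .nil))) (.node 1 (.node 1 (.node 0 (.node 0 .nil (.node 2 .nil .nil)) .nil) (.node 2 (.node 0 (.node 0 .nil (.node 2 .nil .nil)) (.node 1 (.node 0 .nil .nil) (.node 2 .nil .nil))) .nil)) (.node 2 (.node 0 .nil (.node 1 (.node 0 (.node 0 .nil (.node 1 .nil .nil)) (.node 1 .nil .nil)) (.node 2 (.node 2 .nil .nil) .nil))) .nil))) .nil))) (.node 1 (.node 0 (.node 0 (.node 0 (.node 0 .nil (.node 2 (.node 0 .nil .nil) .nil)) (.node 2 (.node 0 .nil (.node 2 (.node 1 .nil (.node 2 (.node 2 .nil .nil) .nil)) .nil)) .nil)) (.node 1 (.node 1 (.node 0 .nil .nil) (.node 2 (.node 0 .nil (.node 1 .nil (.node 2 .nil .nil))) .nil)) (.node 2 (.node 0 (.node 0 (.node 1 .nil .nil) (.node 1 (.node 0 (.node 2 .nil .nil) (.node 2 .nil .nil)) (.node 2 .nil .nil))) (.node 1 (.node 1 (.node 1 .nil .nil) (.node 2 .nil .nil)) (.node 2 (.node 0 (.node 2 .nil .nil) (.node 2 (.node 0 .nil (.node 2 .nil .nil))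 .nil)) .nil))) .nil))) (.node 1 (.node 0 (.node 0 .nil (.node 1 (.node 0 .nil (.node 1 .nil (.node 2 .nil .nil))) (.node 2 (.node 0 .nil (.node 2 .nil .nil)) .nil))) (.node 1 (.node 0 (.node 2 .nil .nil) (.node 1 (.node 0 .nil (.node 2 (.node 0 .nil (.node 1 .nil .nil)) .nil)) (.node 2 (.node 0 (.node 1 .nil (.node 2 .nil .nil)) (.node 1 (.node 2 .nil .nil) .nil)) .nil))) (.node 2 (.node 0 (.node 0 .nil (.node 1 (.node 2 .nil .nil) (.node 2 (.node 0 .nil .nil) .nil))) (.node 1 (.node 1 (.node 2 .nil .nil) .nil) (.node 2 (.node 0 (.node 0 .nil .nil) (.node 1 .nil (.node 2 (.node 0 .nil (.node 1 .nil .nil)) .nil))) .nil))) .nil))) (.node 2 (.node 0 (.node 1 (.node 0 (.node 0 .nil (.node 1 .nil .nil)) (.node 1 (.node 1 .nil .nil) (.node 2 (.node 2 .nil .nil) .nil))) (.node 2 (.node 1 (.node 1 .nil .nil) .nil) .nil)) (.node 1 (.node 1 (.node 2 .nil .nil) (.node 2 .nil .nil)) (.node 2 (.node 0 (.node 0 .nil (.node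 2 (.node 0 .nil .nil) .nil)) (.node 1 .nil .nil)) .nil))) .nil))) (.node 2 (.node 0 (.node 1 (.node 0 (.node 0 (.node 1 .nil .nil) .nil) (.node 1 (.node 0 .nil (.node 2 .nil .nil)) (.node 2 (.node 1 .nil (.node 2 (.node 0 .nil .nil) .nil)) .nil))) (.node 2 (.node 0 (.node 2 (.node 1 .nil .nil) .nil) (.node 2 .nil .nil)) .nil)) (.node 1 (.node 0 (.node 0 (.node 0 .nil (.node 1 (.node 2 .nil .nil) (.node 2 .nil .nil))) (.node 2 (.node 1 .nil .nil) .nil)) (.node 1 (.node 0 (.node 1 (.node 1 .nil .nil) .nil) (.node 1 .nil (.node 2 (.node 0 .nil (.node 2 (.node 1 .nil .nil) .nil)) .nil))) (.node 2 (.node 0 (.node 0 (.node 1 .nil .nil) (.node 1 .nil .nil)) (.node 1 (.node 0 .nil (.node 1 .nil (.node 2 (.node 0 .nil .nil) .nil))) (.node 2 (.node 0 .nil (.node 1 .nil (.node 2 .nil .nil))) .nil))) .nil))) (.node 2 (.node 0 (.node 0 .nil .nil) (.node 1 (.node 0 (.node 1 .nil .nil) (.node 1 (.node 1 .nil .nil) (.node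 2 .nil .nil))) (.node 2 (.node 0 (.node 0 (.node 0 .nil (.node 1 .nil (.node 2 .nil .nil))) (.node 1 .nil .nil)) (.node 1 (.node 2 .nil .nil) (.node 2 (.node 0 .nil (.node 1 .nil .nil)) .nil))) .nil))) .nil))) .nil))) (.node 2 (.node 0 (.node 0 (.node 1 (.node 0 (.node 0 (.node 0 .nil (.node 1 .nil .nil)) (.node 2 .nil .nil)) (.node 1 .nil (.node 2 (.node 1 (.node 2 .nil .nil) (.node 2 .nil .nil)) .nil))) (.node 2 (.node 1 (.node 0 (.node 0 .nil .nil) (.node 1 .nil .nil)) (.node 2 (.node 0 (.node 1 .nil .nil) .nil) .nil)) .nil)) (.node 1 (.node 1 .nil (.node 2 (.node 0 (.node 0 .nil .nil) (.node 1 (.node 0 (.node 0 .nil (.node 2 .nil .nil)) (.node 1 .nil (.node 2 .nil .nil))) (.node 2 (.node 2 .nil .nil) .nil))) .nil)) (.node 2 (.node 0 (.node 0 (.node 1 (.node 0 .nil (.node 2 .nil .nil)) .nil) (.node 1 (.node 0 .nil (.node 1 .nil (.node 2 .nil .nil))) (.node 2 (.node 0 (.node 0 .nil .nil) .nil) .nil))) (.node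 1 (.node 0 .nil (.node 1 (.node 1 (.node 1 .nil .nil) .nil) (.node 2 (.node 0 (.node 0 .nil .nil) (.node 2 .nil .nil)) .nil))) .nil)) .nil))) (.node 1 (.node 0 (.node 0 (.node 1 (.node 0 (.node 1 .nil .nil) .nil) (.node 2 .nil .nil)) (.node 1 (.node 0 (.node 1 (.node 1 .nil .nil) (.node 2 .nil .nil)) (.node 1 (.node 2 .nil .nil) (.node 2 (.node 0 (.node 1 .nil .nil) (.node 2 .nil .nil)) .nil))) (.node 2 (.node 1 (.node 0 .nil .nil) (.node 2 .nil .nil)) .nil))) (.node 1 (.node 0 (.node 1 (.node 0 .nil (.node 1 .nil (.node 2 .nil .nil))) .nil) (.node 1 (.node 0 (.node 0 .nil .nil) (.node 1 (.node 0 (.node 0 .nil .nil) (.node 1 .nil .nil)) (.node 2 (.node 0 .nil (.node 2 .nil .nil)) .nil))) (.node 2 (.node 2 (.node 0 .nil (.node 1 .nil (.node 2 .nil .nil))) .nil) .nil))) (.node 2 (.node 0 (.node 0 (.node 0 (.node 0 .nil (.node 1 .nil (.node 2 .nil .nil))) .nil) (.node 1 (.node 0 .nil (.node 2 (.node 2 .nil .nil)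 .nil)) (.node 2 (.node 0 .nil (.node 1 .nil (.node 2 .nil .nil))) .nil))) (.node 1 (.node 0 (.node 0 .nil (.node 1 .nil (.node 2 .nil .nil))) (.node 1 (.node 0 .nil (.node 2 (.node 1 .nil .nil) .nil)) .nil)) (.node 2 (.node 0 (.node 0 (.node 0 .nil .nil) .nil) (.node 1 (.node 2 .nil .nil) .nil)) .nil))) .nil))) (.node 2 (.node 0 (.node 0 (.node 0 (.node 0 .nil (.node 2 .nil .nil)) (.node 1 (.node 1 .nil (.node 2 .nil .nil)) .nil)) (.node 1 (.node 0 (.node 1 .nil (.node 2 (.node 0 .nil .nil) .nil)) (.node 1 (.node 0 .nil (.node 2 .nil .nil)) (.node 2 (.node 0 (.node 1 .nil (.node 2 .nil .nil)) (.node 2 (.node 2 .nil .nil) .nil)) .nil))) (.node 2 (.node 0 (.node 1 (.node 2 .nil .nil) .nil) (.node 1 .nil (.node 2 (.node 2 .nil .nil) .nil))) .nil))) (.node 1 (.node 0 (.node 0 (.node 0 .nil (.node 2 .nil .nil)) (.node 1 (.node 0 .nil (.node 2 .nil .nil)) (.node 2 (.node 0 .nil (.node 2 .nil .nil)) .nil))) (.node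 1 (.node 0 (.node 0 .nil (.node 1 .nil .nil)) (.node 1 (.node 0 .nil (.node 1 .nil .nil)) (.node 2 (.node 0 .nil (.node 1 .nil .nil)) .nil))) (.node 2 (.node 0 (.node 1 .nil .nil) (.node 2 (.node 1 .nil (.node 2 (.node 0 .nil .nil) .nil)) .nil)) .nil))) (.node 2 (.node 0 (.node 0 (.node 0 .nil (.node 1 .nil .nil)) (.node 1 (.node 0 (.node 1 .nil .nil) (.node 1 .nil (.node 2 (.node 2 .nil .nil) .nil))) (.node 2 (.node 2 .nil .nil) .nil))) (.node 1 (.node 0 (.node 1 .nil (.node 2 .nil .nil)) (.node 1 (.node 2 (.node 2 .nil .nil) .nil) (.node 2 .nil .nil))) (.node 2 (.node 0 (.node 1 .nil .nil) .nil) .nil))) .nil))) .nil))) .nil))),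
   896⟩

/-- All classes. -/
def classes : List Cls := [cls0, cls1, cls2]

/-- Value and size of each class. -/
def table : List (ℕ × ℕ) := [(512, 35), (64, 840), (86, 896)]

theorem cert_ok : suborbOk gens base classes 16777216 = true := by decide +kernel

theorem table_ok : classes.map (fun c => (crossL base c.root, c.size)) = table := by decide +kernel

end CfsgLib.Golay.Suborb.OctSex
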