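/-
Suborbit certificate OctTrio.
-/
import Cfsg.Agent.Golay.Suborb

set_option autoImplicit false
set_option maxRecDepth 20000

namespace CfsgLib.Golay.Suborb.OctTrio

/-- Masks of the base family. -/
def base : List ℕ := [8391797]

/-- Elements of the group fixing the base family. -/
def gens : List (List ℕ) :=
  [[5, 15, 4, 18, 11, 6, 23, 7, 21, 20, 2, 10, 12, 16, 14, 22, 13, 17, 9, 1, 3, 8, 19, 0],
   [2, 18, 5, 13, 10, 0, 4, 7, 21, 20, 23, 6, 1, 19, 17, 9, 8, 22, 14, 12, 3, 15, 16, 11],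
   [10, 18, 4, 21, 6, 5, 0, 15, 9, 1, 11, 23, 16, 7, 3, 22, 19, 17, 12, 8, 20, 13, 14, 2]]

/-- Class 0. -/
def cls0 : Cls :=
  ⟨[307594, 8077824, 8391797],
   (.node 0 (.node 0 (.node 0 .nil .nil) (.node 1 (.node 0 (.node 1 .nil .nil) (.node 2 (.node 1 .nil .nil) .nil)) (.node 2 (.node 2 (.node 2 .nil .nil) .nil) .nil))) (.node 1 (.node 1 (.node 0 .nil .nil) .nil) .nil)),
   15⟩

/-- Class 1. -/
def cls1 : Cls :=
  ⟨[5279, 4038912, 12733024],
   (.node 0 (.node 0 (.node 0 (.node 1 (.node 0 (.node 0 .nil (.node 2 .nil .nil)) (.node 1 (.node 0 .nil (.node 1 (.node 0 .nil (.node 2 .nil .nil)) .nil)) (.node 2 (.node 2 (.node 0 .nil .nil) .nil) .nil))) (.node 2 (.node 0 (.node 1 .nil .nil) (.node 1 .nil (.node 2 (.node 0 .nil (.node 1 .nil (.node 2 .nil .nil))) .nil))) .nil)) (.node 1 (.node 0 (.node 0 (.node 1 .nil .nil) (.node 1 (.node 0 .nil (.node 1 (.node 0 .nil .nil) (.node 2 (.node 2 .nil .nil) .nil)))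 (.node 2 (.node 1 (.node 1 .nil .nil) (.node 2 .nil .nil)) .nil))) (.node 1 (.node 0 (.node 0 .nil .nil) (.node 1 .nil (.node 2 (.node 0 (.node 0 .nil (.node 2 .nil .nil)) (.node 1 (.node 1 .nil .nil) .nil)) .nil))) (.node 2 (.node 0 (.node 1 (.node 0 .nil (.node 1 .nil .nil)) .nil) (.node 1 (.node 1 .nil .nil) .nil)) .nil))) (.node 2 (.node 0 (.node 1 (.node 0 .nil (.node 2 .nil .nil)) (.node 2 (.node 2 .nil .nil) .nil)) (.node 2 (.node 0 (.node 1 (.node 2 .nil .nil) .nil) (.node 1 (.node 0 .nil (.node 1 .nil (.node 2 (.node 2 .nil .nil) .nil))) (.node 2 .nil .nil))) .nil)) .nil))) (.node 1 (.node 0 (.node 0 (.node 1 (.node 0 .nil (.node 1 .nil (.node 2 .nil .nil))) (.node 2 .nil .nil)) (.node 1 (.node 0 (.node 2 (.node 1 .nil .nil) .nil) (.node 1 (.node 0 .nil .nil) (.node 2 .nil .nil))) (.node 2 (.node 0 (.node 2 .nil .nil) (.node 1 (.node 0 .nil (.node 1 .nil .nil)) .nil)) .nil))) (.node 1 (.node 0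 (.node 1 (.node 0 (.node 0 .nil (.node 1 .nil .nil)) (.node 2 (.node 1 .nil .nil) .nil)) (.node 2 (.node 0 (.node 1 .nil .nil) (.node 1 .nil .nil)) .nil)) (.node 1 (.node 0 (.node 0 (.node 2 .nil .nil) (.node 2 (.node 2 .nil .nil) .nil)) (.node 2 (.node 0 (.node 2 .nil .nil) (.node 1 (.node 1 .nil .nil) .nil)) .nil)) (.node 2 .nil .nil))) (.node 2 (.node 0 (.node 1 (.node 2 .nil .nil) (.node 2 (.node 2 .nil .nil) .nil)) (.node 1 (.node 1 (.node 2 .nil .nil) .nil) (.node 2 (.node 0 (.node 2 (.node 0 .nil (.node 1 .nil .nil)) .nil) (.node 1 (.node 2 .nil .nil) (.node 2 (.node 0 .nil .nil) .nil))) .nil))) .nil))) (.node 2 (.node 1 (.node 0 (.node 0 (.node 1 .nil .nil) (.node 1 (.node 0 .nil (.node 1 (.node 1 .nil .nil) .nil)) (.node 2 (.node 0 .nil .nil) .nil))) (.node 1 (.node 0 (.node 0 .nil (.node 2 (.node 0 .nil .nil) .nil)) (.node 2 (.node 0 (.node 0 .nil .nil) (.node 1 (.node 1 .nil .nil) (.node 2 (.node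 0 .nil .nil) .nil))) .nil)) (.node 2 (.node 0 (.node 0 .nil (.node 1 (.node 1 .nil .nil) (.node 2 .nil .nil))) (.node 1 (.node 2 (.node 1 .nil .nil) .nil) (.node 2 (.node 0 .nil (.node 1 .nil .nil)) .nil))) .nil))) (.node 2 (.node 0 (.node 1 (.node 0 .nil (.node 1 .nil .nil)) (.node 2 (.node 2 .nil .nil) .nil)) (.node 1 (.node 1 (.node 0 .nil (.node 2 .nil .nil)) .nil) (.node 2 (.node 0 (.node 2 (.node 1 .nil (.node 2 .nil .nil)) .nil) (.node 2 (.node 1 .nil .nil) .nil)) .nil))) .nil)) .nil))) (.node 1 (.node 0 (.node 0 (.node 0 (.node 1 (.node 1 (.node 1 .nil .nil) .nil) .nil) (.node 1 (.node 0 (.node 2 .nil .nil) (.node 1 (.node 0 .nil .nil) (.node 2 (.node 0 (.node 2 .nil .nil) (.node 2 .nil .nil)) .nil))) .nil)) (.node 1 (.node 0 (.node 0 (.node 0 .nil (.node 1 .nil .nil)) (.node 2 (.node 1 .nil .nil) .nil)) (.node 1 (.node 0 (.node 0 .nil .nil) (.node 1 (.node 1 .nil .nil) .nil)) (.node 2 (.node 0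 (.node 2 .nil .nil) (.node 1 (.node 1 .nil (.node 2 .nil .nil)) (.node 2 (.node 1 (.node 2 .nil .nil) .nil) .nil))) .nil))) (.node 2 (.node 0 (.node 1 (.node 1 .nil (.node 2 .nil .nil)) (.node 2 (.node 0 .nil .nil) .nil)) (.node 1 (.node 1 (.node 0 .nil (.node 2 .nil .nil)) .nil) (.node 2 (.node 0 .nil (.node 1 (.node 2 .nil .nil) (.node 2 .nil .nil))) .nil))) .nil))) (.node 1 (.node 0 (.node 0 (.node 0 .nil (.node 1 (.node 0 .nil (.node 1 .nil .nil)) (.node 2 (.node 0 .nil (.node 1 .nil .nil)) .nil))) (.node 1 (.node 2 (.node 1 .nil .nil) .nil) (.node 2 (.node 0 (.node 0 .nil (.node 1 .nil .nil)) (.node 1 (.node 2 .nil .nil) (.node 2 .nil .nil))) .nil))) (.node 1 (.node 0 (.node 1 .nil (.node 2 (.node 0 .nil (.node 1 .nil (.node 2 .nil .nil))) .nil)) (.node 1 (.node 0 (.node 1 .nil .nil) (.node 1 (.node 2 .nil .nil) .nil)) (.node 2 (.node 1 (.node 0 .nil (.node 1 .nil .nil)) (.node 2 (.node 0 .nil .nil)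 .nil)) .nil))) (.node 2 (.node 0 (.node 0 (.node 0 .nil (.node 2 .nil .nil)) (.node 1 .nil (.node 2 (.node 0 .nil .nil) .nil))) (.node 1 (.node 0 .nil (.node 1 (.node 1 (.node 2 .nil .nil) .nil) .nil)) (.node 2 (.node 0 (.node 1 .nil (.node 2 .nil .nil)) (.node 1 (.node 1 (.node 0 .nil .nil) .nil) .nil)) .nil))) .nil))) .nil)) (.node 2 (.node 0 (.node 0 (.node 0 (.node 1 (.node 0 .nil (.node 1 .nil (.node 2 .nil .nil))) (.node 2 (.node 1 .nil .nil) .nil)) (.node 1 (.node 0 (.node 1 .nil .nil) (.node 2 .nil .nil)) (.node 2 (.node 0 (.node 0 .nil (.node 1 .nil .nil)) (.node 1 (.node 0 .nil .nil) (.node 2 (.node 0 .nil (.node 1 .nil (.node 2 .nil .nil))) .nil))) .nil))) (.node 1 (.node 0 (.node 1 .nil (.node 2 (.node 1 .nil (.node 2 .nil .nil)) .nil)) (.node 1 (.node 1 (.node 0 .nil (.node 1 .nil (.node 2 .nil .nil))) .nil) (.node 2 (.node 0 .nil (.node 1 (.node 1 .nil .nil) (.node 2 (.node 1 .nil .nil) .nil)))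 .nil))) (.node 2 (.node 0 .nil (.node 1 (.node 0 (.node 2 .nil .nil) (.node 1 .nil (.node 2 .nil .nil))) (.node 2 (.node 0 .nil (.node 1 .nil .nil)) .nil))) .nil))) (.node 1 (.node 0 (.node 1 (.node 1 (.node 0 (.node 2 .nil .nil) (.node 1 .nil .nil)) (.node 2 .nil .nil)) (.node 2 (.node 2 (.node 0 .nil (.node 2 .nil .nil)) .nil) .nil)) (.node 2 (.node 0 (.node 2 .nil .nil) (.node 1 (.node 0 (.node 1 .nil (.node 2 .nil .nil)) (.node 1 (.node 2 .nil .nil) (.node 2 .nil .nil))) (.node 2 (.node 0 (.node 1 .nil .nil) (.node 1 .nil (.node 2 .nil .nil))) .nil))) .nil)) (.node 2 (.node 0 (.node 0 (.node 1 (.node 0 .nil (.node 1 .nil (.node 2 (.node 2 .nil .nil) .nil))) .nil) (.node 1 (.node 0 .nil (.node 2 (.node 0 .nil .nil) .nil)) (.node 2 (.node 0 (.node 1 .nil .nil) (.node 1 .nil (.node 2 .nil .nil))) .nil))) (.node 1 (.node 0 (.node 0 (.node 2 (.node 0 .nil .nil) .nil) (.node 1 .nil .nil)) (.node 1 (.node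 0 .nil (.node 1 (.node 2 .nil .nil) (.node 2 (.node 0 .nil (.node 1 .nil .nil)) .nil))) .nil)) (.node 2 (.node 0 (.node 0 .nil (.node 1 (.node 1 .nil .nil) (.node 2 (.node 1 .nil .nil) .nil))) (.node 2 (.node 0 (.node 1 .nil .nil) (.node 1 (.node 1 .nil (.node 2 .nil .nil)) .nil)) .nil)) .nil))) .nil))) .nil))),
   420⟩

/-- Class 2. -/
def cls2 : Cls :=
  ⟨[5279, 1009728, 15762208],
   (.node 0 (.node 0 (.node 0 (.node 1 (.node 0 (.node 0 (.node 0 .nil (.node 2 (.node 0 (.node 1 .nil .nil) (.node 1 .nil .nil)) .nil)) (.node 1 (.node 2 (.node 1 (.node 2 .nil .nil) (.node 2 .nil .nil)) .nil) (.node 2 (.node 1 (.node 0 .nil (.node 1 .nil (.node 2 (.node 1 .nil .nil) .nil))) (.node 2 (.node 0 (.node 0 .nil (.node 2 .nil .nil)) (.node 1 .nil (.node 2 .nil .nil))) .nil)) .nil))) (.node 1 (.node 0 (.node 2 (.node 1 (.node 2 .nil .nil) (.node 2 (.node 0 .nil .nil) .nil)) .nil) (.node 1 (.node 1 (.node 1 (.node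 1 .nil .nil) (.node 2 .nil .nil)) (.node 2 (.node 0 (.node 0 .nil (.node 1 .nil .nil)) (.node 2 (.node 1 .nil .nil) .nil)) .nil)) (.node 2 (.node 1 (.node 2 (.node 0 .nil (.node 1 .nil .nil)) .nil) (.node 2 (.node 1 .nil .nil) .nil)) .nil))) (.node 2 (.node 0 (.node 0 .nil (.node 1 (.node 0 (.node 1 .nil .nil) (.node 2 .nil .nil)) (.node 2 (.node 1 .nil (.node 2 (.node 0 .nil .nil) .nil)) .nil))) (.node 1 (.node 1 (.node 0 .nil (.node 2 (.node 1 .nil .nil) .nil)) (.node 2 .nil .nil)) (.node 2 (.node 1 (.node 0 .nil .nil) (.node 2 .nil .nil)) .nil))) .nil))) (.node 2 (.node 0 (.node 0 (.node 2 (.node 1 .nil (.node 2 .nil .nil)) .nil) (.node 1 (.node 0 (.node 0 .nil (.node 1 .nil .nil)) (.node 1 (.node 0 .nil (.node 1 (.node 2 .nil .nil) .nil)) (.node 2 (.node 1 .nil (.node 2 (.node 2 .nil .nil) .nil)) .nil))) (.node 2 (.node 1 .nil (.node 2 (.node 0 (.node 1 .nil (.node 2 .nil .nil)) (.node 1 .nil (.node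 2 .nil .nil))) .nil)) .nil))) (.node 1 (.node 0 (.node 0 (.node 1 .nil (.node 2 (.node 1 .nil .nil) .nil)) (.node 1 (.node 0 .nil .nil) .nil)) (.node 1 (.node 0 (.node 1 (.node 2 .nil .nil) (.node 2 .nil .nil)) (.node 1 (.node 0 .nil (.node 1 .nil (.node 2 (.node 0 .nil (.node 1 .nil (.node 2 .nil .nil))) .nil))) (.node 2 .nil .nil))) (.node 2 (.node 0 (.node 2 (.node 2 .nil .nil) .nil) (.node 1 (.node 1 .nil .nil) .nil)) .nil))) (.node 2 (.node 0 (.node 0 (.node 0 (.node 2 .nil .nil) .nil) (.node 2 (.node 1 (.node 0 .nil .nil) (.node 2 .nil .nil)) .nil)) (.node 1 (.node 0 (.node 0 (.node 2 .nil .nil) .nil) (.node 1 (.node 1 (.node 2 .nil .nil) (.node 2 .nil .nil)) (.node 2 (.node 0 .nil .nil) .nil))) (.node 2 (.node 2 (.node 0 .nil (.node 1 .nil .nil)) .nil) .nil))) .nil))) .nil)) (.node 1 (.node 0 (.node 0 (.node 0 (.node 1 (.node 0 .nil (.node 1 .nil (.node 2 .nil .nil))) (.node 2 (.node 0 (.node 1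 .nil .nil) (.node 1 (.node 2 .nil .nil) .nil)) .nil)) (.node 1 (.node 0 (.node 1 (.node 2 .nil .nil) .nil) (.node 1 (.node 0 .nil (.node 2 (.node 1 .nil .nil) .nil)) .nil)) (.node 2 (.node 0 (.node 1 .nil (.node 2 .nil .nil)) (.node 1 (.node 0 .nil (.node 1 .nil .nil)) (.node 2 (.node 0 .nil (.node 2 .nil .nil)) .nil))) .nil))) (.node 1 (.node 0 (.node 0 (.node 1 .nil (.node 2 (.node 2 .nil .nil) .nil)) (.node 1 (.node 2 .nil .nil) (.node 2 (.node 0 .nil .nil) .nil))) (.node 1 (.node 0 (.node 0 (.node 2 .nil .nil) (.node 1 .nil (.node 2 (.node 2 .nil .nil) .nil))) (.node 1 (.node 2 .nil .nil) (.node 2 (.node 2 .nil .nil) .nil))) (.node 2 (.node 0 .nil (.node 1 (.node 0 .nil .nil) (.node 2 (.node 2 .nil .nil) .nil))) .nil))) (.node 2 (.node 0 (.node 0 (.node 0 .nil (.node 1 (.node 0 .nil .nil) .nil)) (.node 1 (.node 2 .nil .nil) (.node 2 .nil .nil))) (.node 1 (.node 2 (.node 1 .nil (.node 2 (.node 1 .nil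 .nil) .nil)) .nil) (.node 2 (.node 0 (.node 0 (.node 2 .nil .nil) .nil) (.node 1 (.node 0 .nil (.node 2 (.node 2 .nil .nil) .nil)) (.node 2 (.node 0 (.node 1 .nil .nil) (.node 1 (.node 1 .nil (.node 2 .nil .nil)) (.node 2 (.node 2 .nil .nil) .nil))) .nil))) .nil))) .nil))) (.node 1 (.node 0 (.node 0 (.node 0 .nil (.node 1 (.node 0 (.node 0 .nil .nil) (.node 1 .nil .nil)) (.node 2 (.node 0 (.node 0 .nil .nil) (.node 2 .nil .nil)) .nil))) (.node 2 (.node 0 (.node 0 (.node 1 .nil .nil) (.node 1 (.node 1 .nil .nil) (.node 2 .nil .nil))) (.node 1 (.node 0 (.node 0 .nil .nil) .nil) (.node 2 (.node 0 .nil (.node 2 .nil .nil)) .nil))) .nil)) (.node 1 (.node 0 (.node 0 (.node 0 (.node 2 .nil .nil) .nil) (.node 1 (.node 0 .nil .nil) (.node 2 (.node 1 .nil (.node 2 (.node 1 .nil (.node 2 .nil .nil)) .nil)) .nil))) (.node 1 (.node 0 .nil (.node 1 (.node 0 (.node 1 .nil .nil) (.node 1 .nil .nil)) (.node 2 (.node 0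 (.node 2 .nil .nil) (.node 2 (.node 2 .nil .nil) .nil)) .nil))) (.node 2 (.node 0 .nil (.node 1 (.node 0 .nil (.node 2 .nil .nil)) (.node 2 .nil .nil))) .nil))) (.node 2 (.node 0 (.node 0 (.node 1 (.node 0 .nil .nil) .nil) (.node 1 (.node 0 (.node 0 .nil .nil) (.node 1 .nil (.node 2 .nil .nil))) (.node 2 (.node 0 .nil .nil) .nil))) (.node 1 (.node 0 (.node 0 .nil .nil) (.node 1 .nil (.node 2 (.node 1 .nil (.node 2 .nil .nil)) .nil))) (.node 2 (.node 0 (.node 0 (.node 0 .nil .nil) (.node 1 (.node 2 .nil .nil) .nil)) .nil) .nil))) .nil))) (.node 2 (.node 0 (.node 1 (.node 0 (.node 0 .nil (.node 1 .nil (.node 2 .nil .nil))) (.node 1 (.node 0 (.node 2 .nil .nil) (.node 1 (.node 1 .nil .nil) (.node 2 .nil .nil))) (.node 2 (.node 1 .nil .nil) .nil))) .nil) (.node 1 (.node 0 (.node 0 (.node 2 .nil .nil) (.node 1 (.node 0 .nil .nil) (.node 2 (.node 1 (.node 2 .nil .nil) .nil) .nil))) (.node 1 (.node 2 (.node 2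 .nil .nil) .nil) (.node 2 (.node 0 (.node 0 .nil (.node 2 .nil .nil)) (.node 2 .nil .nil)) .nil))) (.node 2 (.node 0 (.node 0 .nil (.node 1 (.node 0 (.node 1 .nil .nil) .nil) (.node 2 (.node 0 (.node 0 .nil .nil) (.node 1 (.node 1 .nil (.node 2 .nil .nil)) .nil)) .nil))) (.node 1 (.node 0 (.node 1 .nil .nil) (.node 2 (.node 0 .nil (.node 2 .nil .nil)) .nil)) (.node 2 (.node 1 (.node 0 .nil (.node 2 .nil .nil)) (.node 2 (.node 0 .nil (.node 1 .nil .nil)) .nil)) .nil))) .nil))) .nil))) (.node 2 (.node 0 (.node 0 (.node 0 (.node 1 .nil (.node 2 (.node 0 .nil .nil) .nil)) (.node 1 (.node 0 (.node 0 .nil .nil) (.node 1 (.node 1 (.node 2 .nil .nil) .nil) .nil)) (.node 2 (.node 1 (.node 0 .nil (.node 1 .nil .nil)) (.node 2 .nil .nil)) .nil))) (.node 1 (.node 0 (.node 0 (.node 1 (.node 2 .nil .nil) .nil) (.node 1 (.node 0 (.node 2 .nil .nil) (.node 1 (.node 1 .nil .nil) .nil)) (.node 2 (.node 0 .nil (.node 2 .nil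 .nil)) .nil))) (.node 1 (.node 1 (.node 0 .nil (.node 1 .nil .nil)) .nil) (.node 2 (.node 0 (.node 0 .nil (.node 1 (.node 1 .nil .nil) .nil)) (.node 1 (.node 0 .nil (.node 1 (.node 2 .nil .nil) .nil)) (.node 2 (.node 1 .nil .nil) .nil))) .nil))) (.node 2 (.node 0 (.node 1 (.node 1 (.node 2 .nil .nil) .nil) (.node 2 (.node 0 (.node 1 .nil .nil) (.node 1 .nil (.node 2 .nil .nil))) .nil)) (.node 1 (.node 0 (.node 0 (.node 0 .nil (.node 1 .nil .nil)) (.node 2 .nil .nil)) (.node 1 (.node 1 .nil .nil) (.node 2 (.node 0 .nil (.node 1 .nil (.node 2 (.node 0 .nil .nil) .nil))) .nil))) (.node 2 (.node 0 (.node 1 .nil .nil) (.node 1 (.node 0 .nil (.node 1 .nil (.node 2 .nil .nil))) (.node 2 (.node 0 .nil (.node 1 (.node 0 .nil .nil) (.node 2 (.node 2 .nil .nil) .nil))) .nil))) .nil))) .nil))) (.node 1 (.node 0 (.node 0 (.node 0 (.node 1 (.node 1 .nil .nil) .nil) .nil) (.node 1 (.node 1 (.node 0 (.node 0 .nil (.node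 1 .nil .nil)) (.node 1 .nil (.node 2 .nil .nil))) (.node 2 (.node 1 (.node 0 .nil .nil) (.node 2 (.node 1 .nil .nil) .nil)) .nil)) (.node 2 (.node 1 .nil (.node 2 (.node 1 .nil (.node 2 .nil .nil)) .nil)) .nil))) (.node 1 (.node 0 (.node 0 (.node 0 (.node 1 .nil .nil) (.node 1 .nil (.node 2 .nil .nil))) (.node 1 .nil (.node 2 (.node 2 .nil .nil) .nil))) (.node 1 (.node 1 (.node 1 .nil .nil) (.node 2 (.node 1 .nil (.node 2 .nil .nil)) .nil)) (.node 2 (.node 0 (.node 1 .nil (.node 2 (.node 1 .nil .nil) .nil)) (.node 1 (.node 0 .nil .nil) (.node 2 .nil .nil))) .nil))) (.node 2 (.node 0 (.node 0 (.node 0 .nil (.node 1 .nil (.node 2 .nil .nil))) (.node 1 (.node 0 .nil (.node 2 .nil .nil)) (.node 2 (.node 1 .nil (.node 2 .nil .nil)) .nil))) (.node 1 (.node 0 (.node 0 .nil (.node 1 .nil (.node 2 .nil .nil))) (.node 2 (.node 0 .nil (.node 1 (.node 2 .nil .nil) (.node 2 .nil .nil))) .nil)) (.node 2 (.node 0 (.node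 1 (.node 2 .nil .nil) (.node 2 .nil .nil)) (.node 1 (.node 1 (.node 2 .nil .nil) .nil) (.node 2 (.node 2 .nil .nil) .nil))) .nil))) .nil))) (.node 2 (.node 0 (.node 0 (.node 0 (.node 1 .nil .nil) (.node 1 (.node 0 (.node 0 .nil .nil) (.node 1 .nil .nil)) (.node 2 (.node 0 .nil (.node 2 .nil .nil)) .nil))) (.node 1 (.node 0 (.node 0 .nil (.node 1 .nil (.node 2 .nil .nil))) (.node 1 (.node 0 .nil .nil) (.node 2 (.node 1 (.node 2 .nil .nil) .nil) .nil))) (.node 2 (.node 1 (.node 0 (.node 0 .nil .nil) (.node 1 .nil (.node 2 .nil .nil))) .nil) .nil))) (.node 1 (.node 0 (.node 0 .nil (.node 1 (.node 1 .nil .nil) .nil)) (.node 1 (.node 1 .nil (.node 2 (.node 0 .nil (.node 1 .nil (.node 2 .nil .nil))) .nil)) (.node 2 (.node 0 .nil (.node 1 (.node 2 .nil .nil) (.node 2 (.node 0 (.node 1 .nil .nil) (.node 2 (.node 0 .nil .nil) .nil)) .nil))) .nil))) (.node 2 (.node 1 (.node 0 (.node 1 .nil (.node 2 .nil .nil)) (.node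 1 (.node 2 .nil .nil) (.node 2 (.node 2 (.node 2 .nil .nil) .nil) .nil))) .nil) .nil))) .nil))) .nil))) (.node 1 (.node 0 (.node 0 (.node 0 (.node 1 .nil (.node 2 (.node 1 (.node 0 .nil (.node 1 .nil .nil)) (.node 2 (.node 2 .nil .nil) .nil)) .nil)) (.node 1 (.node 0 (.node 1 (.node 0 .nil .nil) (.node 2 (.node 0 (.node 1 .nil .nil) (.node 1 .nil .nil)) .nil)) (.node 1 (.node 0 (.node 0 .nil (.node 1 .nil (.node 2 (.node 1 .nil .nil) .nil))) (.node 1 (.node 0 .nil (.node 1 .nil .nil)) (.node 2 (.node 1 .nil .nil) .nil))) (.node 2 (.node 0 (.node 0 .nil .nil) (.node 1 (.node 2 (.node 1 .nil .nil) .nil) (.node 2 (.node 0 (.node 1 .nil .nil) (.node 1 .nil .nil)) .nil))) .nil))) (.node 2 (.node 0 (.node 0 (.node 1 .nil .nil) (.node 1 .nil (.node 2 (.node 0 (.node 0 .nil .nil) (.node 2 .nil .nil)) .nil))) (.node 1 (.node 0 (.node 0 (.node 0 .nil (.node 1 .nil .nil)) (.node 2 .nil .nil)) (.node 2 (.node 0 .nil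 (.node 2 .nil .nil)) .nil)) (.node 2 (.node 0 (.node 2 .nil .nil) (.node 1 (.node 0 .nil .nil) (.node 2 .nil .nil))) .nil))) .nil))) (.node 1 (.node 0 (.node 0 (.node 0 .nil (.node 1 (.node 0 .nil (.node 1 (.node 2 .nil .nil) (.node 2 (.node 1 .nil .nil) .nil))) (.node 2 (.node 1 .nil (.node 2 .nil .nil)) .nil))) (.node 1 (.node 0 (.node 0 .nil (.node 1 .nil .nil)) (.node 1 .nil .nil)) (.node 2 (.node 0 .nil (.node 2 (.node 0 .nil .nil) .nil)) .nil))) (.node 1 (.node 0 (.node 0 (.node 0 (.node 1 .nil .nil) (.node 1 .nil .nil)) (.node 1 (.node 0 .nil (.node 1 (.node 2 .nil .nil) .nil)) (.node 2 (.node 1 .nil .nil) .nil))) (.node 1 (.node 0 (.node 1 .nil .nil) (.node 1 (.node 2 .nil .nil) (.node 2 (.node 0 .nil (.node 2 .nil .nil)) .nil))) .nil)) (.node 2 (.node 0 (.node 0 (.node 1 (.node 2 .nil .nil) .nil) (.node 1 (.node 0 .nil (.node 2 (.node 2 .nil .nil) .nil)) .nil)) (.node 1 (.node 0 (.node 1 .nil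 .nil) (.node 1 (.node 0 .nil .nil) (.node 2 (.node 0 (.node 1 .nil .nil) (.node 1 .nil .nil)) .nil))) (.node 2 (.node 1 (.node 0 .nil (.node 1 .nil .nil)) (.node 2 .nil .nil)) .nil))) .nil))) (.node 2 (.node 0 (.node 2 (.node 0 (.node 0 (.node 1 .nil .nil) (.node 1 (.node 2 .nil .nil) .nil)) (.node 1 .nil .nil)) .nil) (.node 1 (.node 0 (.node 1 (.node 1 .nil (.node 2 .nil .nil)) .nil) (.node 1 (.node 2 (.node 0 .nil .nil) .nil) (.node 2 (.node 0 (.node 1 .nil .nil) (.node 2 (.node 2 (.node 2 .nil .nil) .nil) .nil)) .nil))) (.node 2 (.node 0 (.node 0 (.node 1 .nil .nil) (.node 1 (.node 1 .nil .nil) (.node 2 .nil .nil))) (.node 1 (.node 0 .nil (.node 2 (.node 1 .nil (.node 2 .nil .nil)) .nil)) (.node 2 (.node 0 (.node 0 .nil .nil) (.node 1 (.node 0 .nil (.node 2 (.node 0 .nil .nil) .nil)) (.node 2 (.node 2 (.node 0 .nil .nil) .nil) .nil))) .nil))) .nil))) .nil))) (.node 1 (.node 0 (.node 0 (.node 0 (.node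 1 (.node 0 .nil .nil) (.node 2 (.node 1 .nil (.node 2 .nil .nil)) .nil)) (.node 2 (.node 0 (.node 0 .nil .nil) (.node 1 .nil (.node 2 (.node 1 (.node 0 .nil .nil) (.node 2 (.node 2 .nil .nil) .nil)) .nil))) .nil)) (.node 1 (.node 0 (.node 0 (.node 1 (.node 0 .nil .nil) .nil) (.node 1 (.node 1 .nil (.node 2 .nil .nil)) (.node 2 (.node 2 .nil .nil) .nil))) (.node 1 (.node 0 (.node 2 .nil .nil) (.node 1 (.node 0 .nil .nil) (.node 2 .nil .nil))) (.node 2 (.node 0 (.node 2 .nil .nil) (.node 1 (.node 0 (.node 2 .nil .nil) (.node 1 .nil .nil)) (.node 2 (.node 1 .nil .nil) .nil))) .nil))) (.node 2 (.node 0 (.node 0 (.node 2 .nil .nil) (.node 1 .nil .nil)) (.node 1 (.node 0 (.node 0 .nil (.node 2 .nil .nil)) (.node 2 (.node 1 .nil .nil) .nil)) (.node 2 (.node 0 (.node 0 (.node 1 .nil .nil) .nil) (.node 1 .nil (.node 2 (.node 1 .nil (.node 2 (.node 2 .nil .nil) .nil)) .nil))) .nil))) .nil))) (.node 1 (.node 0 (.node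 0 (.node 0 (.node 2 .nil .nil) (.node 2 (.node 2 .nil .nil) .nil)) (.node 1 (.node 0 .nil (.node 2 .nil .nil)) (.node 2 (.node 0 (.node 2 (.node 1 .nil .nil) .nil) (.node 1 (.node 0 .nil (.node 1 .nil .nil)) (.node 2 (.node 1 .nil .nil) .nil))) .nil))) (.node 1 (.node 0 (.node 0 (.node 1 .nil (.node 2 .nil .nil)) (.node 1 (.node 1 .nil .nil) (.node 2 (.node 2 .nil .nil) .nil))) (.node 1 (.node 1 (.node 0 .nil .nil) (.node 2 (.node 0 .nil (.node 2 .nil .nil)) .nil)) (.node 2 (.node 0 .nil (.node 1 (.node 1 .nil (.node 2 (.node 2 .nil .nil) .nil)) .nil)) .nil))) (.node 2 (.node 0 (.node 0 (.node 0 .nil .nil) (.node 1 (.node 1 .nil .nil) (.node 2 (.node 2 .nil .nil) .nil))) (.node 1 (.node 0 (.node 0 (.node 1 .nil .nil) .nil) (.node 2 .nil .nil)) .nil)) .nil))) (.node 2 (.node 0 (.node 0 (.node 0 (.node 1 .nil .nil) (.node 2 (.node 2 (.node 2 .nil .nil) .nil) .nil)) (.node 1 (.node 0 (.node 0 (.node 0 .nil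 .nil) (.node 1 .nil .nil)) .nil) (.node 2 (.node 0 (.node 0 .nil .nil) (.node 1 (.node 0 .nil (.node 2 .nil .nil)) (.node 2 .nil .nil))) .nil))) (.node 1 (.node 1 (.node 0 (.node 1 .nil .nil) (.node 1 .nil (.node 2 (.node 1 .nil (.node 2 .nil .nil)) .nil))) (.node 2 (.node 0 (.node 2 .nil .nil) (.node 2 (.node 0 (.node 1 .nil .nil) (.node 1 .nil .nil)) .nil)) .nil)) (.node 2 (.node 0 (.node 0 .nil (.node 1 (.node 0 .nil (.node 2 .nil .nil)) .nil)) (.node 1 (.node 0 .nil (.node 1 (.node 0 (.node 2 .nil .nil) .nil) .nil)) (.node 2 (.node 0 (.node 2 .nil .nil) .nil) .nil))) .nil))) .nil))) (.node 2 (.node 0 (.node 0 (.node 0 (.node 1 (.node 1 (.node 0 .nil .nil) (.node 2 .nil .nil)) (.node 2 (.node 1 .nil .nil) .nil)) (.node 1 (.node 1 (.node 0 .nil (.node 1 .nil (.node 2 (.node 2 .nil .nil) .nil))) (.node 2 .nil .nil)) (.node 2 (.node 1 (.node 2 .nil .nil) (.node 2 (.node 0 .nil (.node 1 (.node 1 .nil .nil)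 (.node 2 .nil .nil))) .nil)) .nil))) (.node 1 (.node 0 (.node 0 (.node 0 .nil (.node 1 .nil (.node 2 (.node 2 .nil .nil) .nil))) (.node 1 (.node 0 (.node 2 .nil .nil) (.node 2 .nil .nil)) (.node 2 (.node 0 .nil .nil) .nil))) (.node 1 (.node 0 (.node 0 .nil (.node 2 .nil .nil)) (.node 1 .nil (.node 2 (.node 2 .nil .nil) .nil))) (.node 2 (.node 1 (.node 0 (.node 1 .nil .nil) (.node 1 (.node 0 .nil .nil) (.node 2 .nil .nil))) (.node 2 (.node 1 .nil .nil) .nil)) .nil))) (.node 2 (.node 0 (.node 0 (.node 0 .nil (.node 1 .nil .nil)) (.node 1 (.node 1 .nil (.node 2 .nil .nil)) (.node 2 (.node 0 .nil (.node 2 .nil .nil)) .nil))) (.node 2 (.node 0 (.node 0 .nil (.node 2 .nil .nil)) (.node 2 (.node 0 .nil (.node 1 .nil .nil)) .nil)) .nil)) .nil))) (.node 1 (.node 0 (.node 0 (.node 0 .nil (.node 2 (.node 0 .nil .nil) .nil)) (.node 1 (.node 0 (.node 0 .nil .nil) (.node 1 (.node 0 .nil .nil) (.node 2 (.node 0 .nil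 .nil) .nil))) (.node 2 (.node 0 (.node 0 .nil (.node 1 .nil (.node 2 (.node 0 .nil .nil) .nil))) (.node 1 .nil (.node 2 .nil .nil))) .nil))) (.node 1 (.node 0 (.node 0 (.node 1 .nil .nil) (.node 1 (.node 0 (.node 1 .nil .nil) (.node 2 .nil .nil)) (.node 2 (.node 0 .nil (.node 1 .nil .nil)) .nil))) (.node 1 (.node 0 .nil (.node 1 .nil (.node 2 (.node 0 .nil (.node 2 .nil .nil)) .nil))) (.node 2 (.node 1 (.node 1 .nil .nil) (.node 2 (.node 2 .nil .nil) .nil)) .nil))) (.node 2 (.node 1 (.node 1 (.node 2 .nil .nil) (.node 2 .nil .nil)) (.node 2 (.node 1 (.node 0 .nil (.node 2 .nil .nil)) (.node 2 (.node 1 .nil .nil) .nil)) .nil)) .nil))) (.node 2 (.node 0 (.node 0 (.node 0 (.node 2 .nil .nil) (.node 1 .nil (.node 2 (.node 2 (.node 1 .nil .nil) .nil) .nil))) (.node 1 (.node 0 (.node 0 .nil (.node 1 .nil (.node 2 .nil .nil))) (.node 1 (.node 0 .nil (.node 1 .nil .nil)) (.node 2 .nil .nil))) (.node 2 (.node 0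 (.node 0 .nil .nil) (.node 2 (.node 0 .nil (.node 2 .nil .nil)) .nil)) .nil))) (.node 1 (.node 0 (.node 0 (.node 0 .nil (.node 2 (.node 1 .nil .nil) .nil)) (.node 1 (.node 0 .nil (.node 1 .nil .nil)) (.node 2 .nil .nil))) (.node 1 (.node 0 (.node 2 .nil .nil) (.node 1 (.node 0 .nil (.node 2 .nil .nil)) .nil)) .nil)) (.node 2 (.node 0 .nil (.node 1 .nil .nil)) .nil))) .nil))) .nil))) (.node 2 (.node 0 (.node 0 (.node 0 (.node 1 (.node 1 (.node 0 .nil (.node 1 .nil .nil)) .nil) .nil) (.node 1 (.node 0 (.node 0 (.node 0 .nil .nil) (.node 2 (.node 0 .nil (.node 2 .nil .nil)) .nil)) (.node 1 (.node 0 (.node 1 .nil (.node 2 .nil .nil)) (.node 1 .nil (.node 2 .nil .nil))) (.node 2 (.node 0 (.node 2 .nil .nil) (.node 1 (.node 1 (.node 0 .nil (.node 1 .nil .nil)) (.node 2 .nil .nil)) (.node 2 (.node 0 .nil (.node 1 .nil .nil)) .nil))) .nil))) (.node 2 (.node 0 (.node 0 .nil (.node 1 .nil (.node 2 (.node 2 .nil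 .nil) .nil))) (.node 1 (.node 0 (.node 1 .nil .nil) (.node 1 (.node 1 .nil (.node 2 .nil .nil)) (.node 2 (.node 0 .nil (.node 2 (.node 0 .nil .nil) .nil)) .nil))) (.node 2 .nil .nil))) .nil))) (.node 1 (.node 0 (.node 0 (.node 0 .nil (.node 1 (.node 0 .nil (.node 1 .nil .nil)) (.node 2 (.node 0 .nil (.node 2 .nil .nil)) .nil))) (.node 1 (.node 0 (.node 0 .nil (.node 1 .nil .nil)) (.node 1 (.node 0 .nil (.node 2 .nil .nil)) (.node 2 (.node 0 .nil (.node 2 .nil .nil)) .nil))) (.node 2 (.node 0 (.node 2 .nil .nil) (.node 2 (.node 0 .nil (.node 1 .nil .nil)) .nil)) .nil))) (.node 1 (.node 0 (.node 0 (.node 0 .nil (.node 1 .nil .nil)) (.node 1 (.node 1 .nil .nil) (.node 2 (.node 1 .nil .nil) .nil))) (.node 1 (.node 0 (.node 1 .nil .nil) (.node 1 (.node 1 .nil (.node 2 .nil .nil)) .nil)) (.node 2 (.node 0 (.node 1 .nil (.node 2 .nil .nil)) (.node 1 .nil .nil)) .nil))) (.node 2 (.node 0 (.node 0 (.node 0 .nil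 .nil) (.node 1 (.node 2 .nil .nil) .nil)) (.node 1 (.node 0 (.node 1 .nil .nil) .nil) (.node 2 (.node 0 .nil (.node 1 .nil (.node 2 .nil .nil))) .nil))) .nil))) (.node 2 (.node 0 (.node 0 (.node 0 .nil (.node 2 (.node 1 .nil .nil) .nil)) (.node 1 (.node 1 (.node 2 (.node 0 .nil .nil) .nil) (.node 2 (.node 0 .nil (.node 1 .nil .nil)) .nil)) (.node 2 (.node 1 (.node 1 .nil (.node 2 .nil .nil)) (.node 2 (.node 0 .nil .nil) .nil)) .nil))) (.node 1 (.node 0 (.node 2 (.node 0 .nil (.node 1 .nil .nil)) .nil) (.node 1 (.node 0 (.node 2 (.node 1 .nil .nil) .nil) (.node 1 (.node 0 .nil (.node 2 .nil .nil)) (.node 2 .nil .nil))) (.node 2 .nil .nil))) (.node 2 (.node 0 (.node 1 (.node 1 .nil .nil) .nil) (.node 1 (.node 0 (.node 1 .nil (.node 2 .nil .nil)) (.node 2 (.node 0 (.node 2 .nil .nil) (.node 1 .nil .nil)) .nil)) (.node 2 (.node 1 (.node 0 .nil .nil) (.node 2 (.node 1 .nil (.node 2 .nil .nil)) .nil)) .nil)))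 .nil))) .nil))) (.node 1 (.node 0 (.node 0 (.node 0 (.node 2 (.node 0 .nil (.node 1 (.node 2 .nil .nil) (.node 2 .nil .nil))) .nil) (.node 1 (.node 0 (.node 1 .nil .nil) (.node 1 (.node 0 .nil (.node 2 .nil .nil)) (.node 2 (.node 2 .nil .nil) .nil))) (.node 2 (.node 1 (.node 0 (.node 2 .nil .nil) (.node 2 (.node 2 .nil .nil) .nil)) (.node 2 .nil .nil)) .nil))) (.node 1 (.node 0 (.node 0 (.node 0 .nil .nil) (.node 1 (.node 0 .nil .nil) .nil)) (.node 1 .nil .nil)) (.node 2 (.node 0 (.node 0 (.node 2 .nil .nil) (.node 1 (.node 0 .nil .nil) .nil)) (.node 1 (.node 1 (.node 0 .nil .nil) (.node 2 (.node 0 (.node 0 .nil .nil) .nil) .nil)) (.node 2 (.node 0 (.node 2 .nil .nil) (.node 2 (.node 1 .nil .nil) .nil)) .nil))) .nil))) (.node 1 (.node 0 (.node 0 (.node 0 (.node 2 (.node 0 .nil .nil) .nil) (.node 2 (.node 1 .nil (.node 2 .nil .nil)) .nil)) (.node 1 (.node 0 (.node 1 .nil (.node 2 .nil .nil)) (.node 1 (.node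 2 .nil .nil) .nil)) (.node 2 (.node 0 (.node 0 .nil .nil) .nil) .nil))) (.node 1 (.node 1 (.node 1 (.node 1 .nil (.node 2 .nil .nil)) .nil) (.node 2 (.node 1 .nil (.node 2 .nil .nil)) .nil)) (.node 2 (.node 0 (.node 0 (.node 2 .nil .nil) (.node 1 (.node 0 (.node 2 .nil .nil) (.node 1 (.node 1 .nil .nil) .nil)) .nil)) (.node 1 (.node 0 .nil (.node 1 .nil (.node 2 (.node 1 (.node 0 .nil (.node 1 .nil .nil)) .nil) .nil))) (.node 2 (.node 0 (.node 0 .nil (.node 2 .nil .nil)) (.node 1 (.node 0 (.node 2 .nil .nil) (.node 1 .nil .nil)) .nil)) .nil))) .nil))) (.node 2 (.node 0 (.node 1 (.node 1 (.node 0 .nil .nil) (.node 2 (.node 1 .nil (.node 2 .nil .nil)) .nil)) (.node 2 (.node 1 (.node 1 .nil (.node 2 .nil .nil)) .nil) .nil)) (.node 1 (.node 0 (.node 1 (.node 2 .nil .nil) .nil) (.node 1 (.node 0 (.node 1 (.node 2 .nil .nil) (.node 2 .nil .nil)) (.node 1 .nil (.node 2 .nil .nil))) (.node 2 (.node 0 (.node 1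 .nil (.node 2 .nil .nil)) (.node 1 (.node 2 .nil .nil) (.node 2 (.node 1 (.node 0 .nil .nil) (.node 2 .nil .nil)) .nil))) .nil))) .nil)) .nil))) (.node 2 (.node 0 (.node 0 (.node 0 (.node 1 (.node 1 .nil .nil) .nil) (.node 1 (.node 2 (.node 2 .nil .nil) .nil) (.node 2 (.node 0 (.node 0 .nil .nil) (.node 2 (.node 0 (.node 1 .nil .nil) (.node 1 .nil (.node 2 (.node 2 .nil .nil) .nil))) .nil)) .nil))) (.node 1 (.node 0 (.node 1 (.node 1 .nil .nil) (.node 2 (.node 0 .nil (.node 2 .nil .nil)) .nil)) (.node 1 (.node 1 (.node 0 .nil (.node 1 .nil .nil)) (.node 2 (.node 0 .nil (.node 1 .nil (.node 2 .nil .nil))) .nil)) (.node 2 (.node 0 (.node 0 .nil .nil) .nil) .nil))) (.node 2 (.node 1 (.node 0 (.node 0 .nil .nil) (.node 2 (.node 1 .nil .nil) .nil)) (.node 2 (.node 0 (.node 1 (.node 2 .nil .nil) .nil) (.node 2 (.node 0 .nil (.node 1 (.node 0 .nil .nil) .nil)) .nil)) .nil)) .nil))) (.node 1 (.node 0 (.node 0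 (.node 0 (.node 1 .nil .nil) (.node 1 .nil (.node 2 (.node 2 (.node 1 .nil (.node 2 .nil .nil)) .nil) .nil))) (.node 1 (.node 0 .nil (.node 1 (.node 0 .nil .nil) (.node 2 .nil .nil))) (.node 2 (.node 0 .nil (.node 1 .nil (.node 2 (.node 0 .nil .nil) .nil))) .nil))) (.node 1 (.node 0 (.node 0 (.node 0 .nil (.node 1 .nil (.node 2 .nil .nil))) (.node 1 (.node 1 (.node 0 .nil .nil) (.node 2 .nil .nil)) .nil)) (.node 1 (.node 0 (.node 2 (.node 2 .nil .nil) .nil) (.node 2 (.node 0 .nil .nil) .nil)) (.node 2 (.node 2 (.node 2 .nil .nil) .nil) .nil))) (.node 2 (.node 0 (.node 2 (.node 1 .nil (.node 2 .nil .nil)) .nil) (.node 1 (.node 1 (.node 0 .nil (.node 1 .nil .nil)) (.node 2 (.node 1 .nil .nil) .nil)) .nil)) .nil))) (.node 2 (.node 0 (.node 0 (.node 0 (.node 2 (.node 2 .nil .nil) .nil) (.node 1 (.node 1 .nil .nil) .nil)) (.node 1 (.node 0 (.node 2 .nil .nil) (.node 1 (.node 1 (.node 0 .nil .nil) .nil) (.node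 2 (.node 0 .nil (.node 2 .nil .nil)) .nil))) (.node 2 (.node 1 (.node 0 .nil .nil) (.node 2 .nil .nil)) .nil))) (.node 1 (.node 1 (.node 0 (.node 0 .nil .nil) (.node 1 (.node 2 .nil .nil) .nil)) .nil) (.node 2 (.node 0 (.node 0 .nil .nil) (.node 1 (.node 1 (.node 2 (.node 0 .nil .nil) .nil) (.node 2 (.node 1 (.node 1 .nil .nil) (.node 2 .nil .nil)) .nil)) (.node 2 (.node 1 (.node 0 .nil (.node 1 .nil .nil)) (.node 2 (.node 0 .nil .nil) .nil)) .nil))) .nil))) .nil))) .nil))) .nil))) (.node 1 (.node 0 (.node 0 (.node 0 (.node 1 (.node 0 (.node 0 (.node 1 (.node 1 .nil .nil) .nil) (.node 1 .nil (.node 2 (.node 0 .nil .nil) .nil))) (.node 1 (.node 0 (.node 1 .nil .nil) (.node 1 (.node 0 .nil .nil) .nil)) (.node 2 (.node 1 (.node 1 .nil (.node 2 .nil .nil)) (.node 2 .nil .nil)) .nil))) (.node 2 (.node 0 (.node 1 (.node 1 .nil .nil) (.node 2 (.node 1 .nil .nil) .nil)) (.node 1 (.node 0 (.node 0 .nil (.node 1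 .nil (.node 2 .nil .nil))) .nil) (.node 2 (.node 0 (.node 0 (.node 2 .nil .nil) (.node 1 .nil .nil)) (.node 1 (.node 1 .nil .nil) (.node 2 .nil .nil))) .nil))) .nil)) (.node 1 (.node 0 (.node 0 (.node 0 (.node 2 .nil .nil) (.node 1 (.node 0 .nil (.node 1 (.node 2 .nil .nil) .nil)) (.node 2 (.node 0 .nil (.node 2 .nil .nil)) .nil))) (.node 1 (.node 0 (.node 0 .nil .nil) (.node 1 (.node 0 .nil .nil) (.node 2 (.node 0 .nil .nil) .nil))) (.node 2 (.node 2 (.node 0 (.node 1 .nil .nil) .nil) .nil) .nil))) (.node 1 (.node 0 (.node 0 .nil (.node 1 (.node 0 .nil .nil) (.node 2 (.node 1 (.node 1 .nil .nil) .nil) .nil))) (.node 1 (.node 1 (.node 1 .nil .nil) (.node 2 (.node 1 .nil .nil) .nil)) (.node 2 (.node 2 (.node 2 .nil .nil) .nil) .nil))) (.node 2 (.node 0 (.node 0 (.node 1 .nil .nil) (.node 1 (.node 0 .nil .nil) (.node 2 (.node 0 .nil .nil) .nil))) (.node 1 (.node 0 .nil (.node 2 (.node 0 .nil .nil) .nil))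 (.node 2 (.node 0 (.node 0 .nil (.node 1 .nil .nil)) (.node 2 (.node 0 .nil .nil) .nil)) .nil))) .nil))) (.node 2 (.node 0 (.node 0 (.node 1 (.node 0 .nil (.node 1 .nil (.node 2 .nil .nil))) (.node 2 .nil .nil)) (.node 1 (.node 0 (.node 0 .nil .nil) (.node 1 .nil (.node 2 (.node 1 .nil .nil) .nil))) (.node 2 (.node 0 (.node 0 .nil (.node 1 .nil .nil)) (.node 2 (.node 0 (.node 2 .nil .nil) (.node 1 .nil .nil)) .nil)) .nil))) (.node 1 (.node 0 (.node 0 .nil (.node 2 .nil .nil)) (.node 1 (.node 0 (.node 0 .nil (.node 2 .nil .nil)) (.node 1 (.node 1 .nil .nil) (.node 2 .nil .nil))) (.node 2 (.node 0 .nil (.node 1 (.node 0 .nil (.node 1 .nil .nil)) (.node 2 (.node 0 .nil (.node 1 .nil .nil)) .nil))) .nil))) (.node 2 (.node 0 (.node 0 (.node 2 .nil .nil) (.node 1 .nil .nil)) (.node 1 (.node 1 .nil (.node 2 .nil .nil)) (.node 2 (.node 0 .nil (.node 1 (.node 0 .nil (.node 2 .nil .nil)) (.node 2 (.node 0 .nil (.node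 1 .nil .nil)) .nil))) .nil))) .nil))) .nil))) (.node 1 (.node 0 (.node 0 (.node 0 .nil (.node 1 (.node 0 (.node 1 .nil .nil) (.node 1 (.node 0 .nil (.node 2 (.node 2 .nil .nil) .nil)) (.node 2 (.node 0 .nil (.node 1 .nil (.node 2 (.node 2 .nil .nil) .nil))) .nil))) (.node 2 (.node 2 (.node 0 .nil .nil) .nil) .nil))) (.node 1 (.node 0 (.node 0 .nil (.node 1 (.node 0 .nil (.node 1 .nil (.node 2 .nil .nil))) (.node 2 (.node 1 .nil .nil) .nil))) (.node 1 (.node 0 .nil (.node 1 (.node 0 .nil (.node 1 .nil .nil)) (.node 2 (.node 2 (.node 1 .nil .nil) .nil) .nil))) (.node 2 (.node 0 .nil (.node 1 (.node 1 .nil .nil) (.node 2 .nil .nil))) .nil))) (.node 2 (.node 0 (.node 0 (.node 0 .nil .nil) (.node 1 .nil (.node 2 .nil .nil))) (.node 1 (.node 1 (.node 2 .nil .nil) (.node 2 (.node 0 .nil (.node 1 (.node 0 .nil .nil) .nil)) .nil)) (.node 2 (.node 1 (.node 0 .nil (.node 2 .nil .nil)) (.node 2 .nil .nil)) .nil)))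 .nil))) (.node 1 (.node 0 (.node 0 (.node 0 .nil (.node 2 (.node 0 .nil .nil) .nil)) (.node 1 (.node 0 .nil (.node 2 .nil .nil)) (.node 2 (.node 0 (.node 0 .nil (.node 1 .nil .nil)) (.node 1 .nil (.node 2 .nil .nil))) .nil))) (.node 1 (.node 0 (.node 0 (.node 0 .nil (.node 1 .nil (.node 2 .nil .nil))) (.node 1 (.node 1 (.node 2 .nil .nil) .nil) (.node 2 (.node 1 (.node 2 .nil .nil) (.node 2 (.node 1 .nil .nil) .nil)) .nil))) (.node 1 (.node 0 (.node 0 .nil (.node 1 .nil .nil)) (.node 2 (.node 1 .nil (.node 2 .nil .nil)) .nil)) (.node 2 (.node 0 .nil (.node 1 (.node 0 .nil (.node 2 .nil .nil)) (.node 2 (.node 0 .nil .nil) .nil))) .nil))) (.node 2 (.node 0 (.node 0 (.node 0 .nil (.node 1 .nil (.node 2 .nil .nil))) (.node 1 (.node 0 .nil .nil) (.node 2 (.node 0 .nil (.node 2 .nil .nil)) .nil))) (.node 1 (.node 0 (.node 2 .nil .nil) (.node 1 (.node 2 .nil .nil) (.node 2 .nil .nil))) (.node 2 (.node 1 .nil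 (.node 2 .nil .nil)) .nil))) .nil))) (.node 2 (.node 0 (.node 0 (.node 0 .nil .nil) (.node 1 (.node 0 (.node 2 .nil .nil) (.node 1 (.node 2 .nil .nil) (.node 2 .nil .nil))) (.node 2 (.node 0 (.node 1 .nil .nil) (.node 1 (.node 0 (.node 1 .nil .nil) (.node 1 .nil (.node 2 .nil .nil))) (.node 2 (.node 2 .nil .nil) .nil))) .nil))) (.node 1 (.node 0 (.node 1 (.node 1 .nil .nil) (.node 2 .nil .nil)) (.node 1 (.node 0 (.node 1 .nil (.node 2 .nil .nil)) (.node 1 (.node 0 .nil .nil) (.node 2 (.node 1 .nil (.node 2 .nil .nil)) .nil))) (.node 2 (.node 0 (.node 0 .nil (.node 1 .nil .nil)) (.node 1 (.node 2 (.node 2 .nil .nil) .nil) (.node 2 .nil .nil))) .nil))) (.node 2 (.node 1 (.node 0 .nil (.node 1 (.node 1 .nil .nil) (.node 2 .nil .nil))) (.node 2 (.node 0 .nil (.node 1 (.node 0 .nil (.node 2 .nil .nil)) (.node 2 .nil .nil))) .nil)) .nil))) .nil))) (.node 2 (.node 0 (.node 0 (.node 0 (.node 1 (.node 0 .nil .nil)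 (.node 2 (.node 2 .nil .nil) .nil)) (.node 1 (.node 1 (.node 0 .nil (.node 1 .nil .nil)) (.node 2 .nil .nil)) .nil)) (.node 1 (.node 0 (.node 0 (.node 1 (.node 1 .nil .nil) (.node 2 .nil .nil)) (.node 2 (.node 1 .nil (.node 2 .nil .nil)) .nil)) (.node 2 (.node 1 (.node 0 .nil (.node 2 .nil .nil)) (.node 2 (.node 1 .nil .nil) .nil)) .nil)) (.node 2 (.node 0 (.node 0 .nil .nil) (.node 1 (.node 0 .nil (.node 1 (.node 1 .nil (.node 2 .nil .nil)) (.node 2 (.node 0 .nil (.node 1 .nil .nil)) .nil))) (.node 2 (.node 0 (.node 2 .nil .nil) (.node 1 .nil (.node 2 .nil .nil))) .nil))) .nil))) (.node 1 (.node 0 (.node 0 (.node 1 (.node 2 .nil .nil) (.node 2 (.node 0 (.node 2 .nil .nil) (.node 2 .nil .nil)) .nil)) (.node 1 (.node 0 (.node 0 .nil .nil) (.node 2 .nil .nil)) (.node 2 (.node 0 (.node 0 .nil (.node 1 .nil .nil)) (.node 1 .nil (.node 2 (.node 0 .nil (.node 2 .nil .nil)) .nil))) .nil))) (.node 1 (.node 0 (.node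 0 (.node 1 .nil .nil) (.node 2 .nil .nil)) (.node 1 (.node 0 (.node 0 .nil .nil) (.node 1 (.node 0 .nil (.node 1 .nil (.node 2 .nil .nil))) .nil)) (.node 2 (.node 1 .nil (.node 2 (.node 2 .nil .nil) .nil)) .nil))) (.node 2 (.node 0 (.node 0 (.node 1 .nil .nil) (.node 1 (.node 2 .nil .nil) .nil)) (.node 1 (.node 0 (.node 0 .nil .nil) (.node 2 (.node 1 .nil .nil) .nil)) (.node 2 (.node 0 (.node 0 .nil (.node 2 .nil .nil)) (.node 1 .nil .nil)) .nil))) .nil))) (.node 2 (.node 0 (.node 0 (.node 2 .nil .nil) (.node 1 (.node 0 (.node 0 .nil .nil) (.node 2 (.node 1 .nil .nil) .nil)) (.node 2 (.node 0 (.node 2 .nil .nil) (.node 1 (.node 0 .nil .nil) (.node 2 (.node 0 .nil .nil) .nil))) .nil))) (.node 1 (.node 0 .nil (.node 1 .nil (.node 2 (.node 0 .nil (.node 1 .nil (.node 2 .nil .nil))) .nil))) (.node 2 (.node 1 (.node 0 (.node 1 .nil .nil) (.node 1 .nil .nil)) (.node 2 (.node 0 .nil (.node 2 .nil .nil)) .nil))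 .nil))) .nil))) .nil))) (.node 1 (.node 0 (.node 0 (.node 0 (.node 1 .nil (.node 2 (.node 2 .nil .nil) .nil)) (.node 1 (.node 0 .nil (.node 1 (.node 1 .nil (.node 2 .nil .nil)) (.node 2 (.node 1 (.node 0 .nil .nil) (.node 2 .nil .nil)) .nil))) (.node 2 (.node 0 .nil (.node 1 (.node 1 (.node 2 .nil .nil) .nil) (.node 2 (.node 2 (.node 2 .nil .nil) .nil) .nil))) .nil))) (.node 1 (.node 0 (.node 0 (.node 0 .nil (.node 1 (.node 2 .nil .nil) (.node 2 (.node 1 .nil .nil) .nil))) (.node 1 .nil (.node 2 .nil .nil))) (.node 1 (.node 0 (.node 1 .nil .nil) (.node 1 (.node 1 .nil (.node 2 (.node 2 .nil .nil) .nil)) (.node 2 (.node 0 (.node 1 .nil .nil) (.node 1 (.node 2 (.node 2 .nil .nil) .nil) .nil)) .nil))) (.node 2 (.node 0 (.node 0 (.node 2 .nil .nil) (.node 1 (.node 0 .nil .nil) (.node 2 .nil .nil))) (.node 1 (.node 1 .nil (.node 2 (.node 2 .nil .nil) .nil)) (.node 2 (.node 2 .nil .nil) .nil))) .nil))) (.node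 2 (.node 0 (.node 0 (.node 0 .nil (.node 1 .nil (.node 2 (.node 0 .nil (.node 1 .nil (.node 2 .nil .nil))) .nil))) (.node 1 (.node 2 (.node 0 .nil .nil) .nil) (.node 2 (.node 0 (.node 1 .nil .nil) (.node 1 (.node 1 .nil .nil) .nil)) .nil))) (.node 1 (.node 0 (.node 1 (.node 1 (.node 0 .nil .nil) (.node 2 .nil .nil)) (.node 2 (.node 0 .nil .nil) .nil)) (.node 1 (.node 0 (.node 2 .nil .nil) (.node 1 .nil (.node 2 .nil .nil))) (.node 2 (.node 0 (.node 0 .nil (.node 1 .nil .nil)) (.node 1 .nil (.node 2 (.node 2 .nil .nil) .nil))) .nil))) (.node 2 (.node 0 (.node 0 .nil (.node 2 .nil .nil)) (.node 1 (.node 1 (.node 0 .nil .nil) .nil) (.node 2 (.node 0 (.node 0 .nil (.node 1 .nil (.node 2 (.node 0 .nil .nil) .nil))) (.node 1 .nil (.node 2 .nil .nil))) .nil))) .nil))) .nil))) (.node 1 (.node 0 (.node 0 (.node 0 .nil (.node 1 (.node 1 (.node 1 .nil (.node 2 (.node 1 .nil .nil) .nil)) (.node 2 (.node 0 .nil (.node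 1 .nil .nil)) .nil)) (.node 2 (.node 0 (.node 1 .nil .nil) (.node 1 (.node 0 .nil (.node 1 .nil .nil)) (.node 2 (.node 0 .nil (.node 1 .nil .nil)) .nil))) .nil))) (.node 1 (.node 0 (.node 0 .nil (.node 1 .nil (.node 2 .nil .nil))) (.node 1 (.node 0 (.node 0 .nil .nil) (.node 1 (.node 2 (.node 0 .nil .nil) .nil) (.node 2 (.node 0 .nil .nil) .nil))) (.node 2 (.node 0 (.node 1 .nil .nil) (.node 1 (.node 2 .nil .nil) (.node 2 (.node 0 .nil (.node 2 .nil .nil)) .nil))) .nil))) (.node 2 (.node 0 (.node 2 (.node 2 (.node 1 .nil .nil) .nil) .nil) (.node 1 (.node 0 (.node 0 .nil .nil) (.node 1 .nil .nil)) (.node 2 (.node 0 (.node 2 .nil .nil) (.node 2 .nil .nil)) .nil))) .nil))) (.node 1 (.node 0 (.node 0 (.node 1 .nil .nil) (.node 1 (.node 0 (.node 1 .nil (.node 2 .nil .nil)) .nil) (.node 2 (.node 0 .nil (.node 1 .nil (.node 2 (.node 2 .nil .nil) .nil))) .nil))) (.node 1 (.node 1 (.node 1 (.node 1 .nil .nil) .nil)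 (.node 2 (.node 0 .nil (.node 2 (.node 0 .nil (.node 2 .nil .nil)) .nil)) .nil)) (.node 2 (.node 0 (.node 1 (.node 0 .nil (.node 2 .nil .nil)) (.node 2 .nil .nil)) (.node 1 (.node 0 .nil (.node 1 (.node 0 .nil (.node 2 .nil .nil)) (.node 2 (.node 2 .nil .nil) .nil))) (.node 2 (.node 0 (.node 0 .nil (.node 1 .nil .nil)) (.node 2 (.node 0 .nil .nil) .nil)) .nil))) .nil))) (.node 2 (.node 0 (.node 0 (.node 2 (.node 2 .nil .nil) .nil) (.node 1 (.node 0 (.node 1 .nil .nil) (.node 1 .nil .nil)) .nil)) (.node 1 (.node 0 (.node 0 (.node 2 .nil .nil) (.node 1 (.node 0 .nil .nil) (.node 2 (.node 1 .nil (.node 2 .nil .nil)) .nil))) (.node 1 (.node 1 .nil (.node 2 (.node 0 .nil .nil) .nil)) (.node 2 (.node 0 (.node 1 .nil .nil) .nil) .nil))) (.node 2 (.node 0 (.node 0 .nil .nil) (.node 2 (.node 0 .nil (.node 1 .nil (.node 2 .nil .nil))) .nil)) .nil))) .nil))) (.node 2 (.node 0 (.node 0 (.node 0 (.node 1 (.node 1 .nil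 (.node 2 .nil .nil)) (.node 2 (.node 1 .nil .nil) .nil)) (.node 1 (.node 2 .nil .nil) (.node 2 (.node 0 .nil (.node 1 (.node 0 .nil .nil) .nil)) .nil))) (.node 1 (.node 0 (.node 0 (.node 1 .nil .nil) (.node 1 (.node 0 .nil (.node 2 .nil .nil)) .nil)) (.node 1 (.node 1 .nil (.node 2 (.node 1 .nil .nil) .nil)) (.node 2 (.node 0 .nil (.node 1 (.node 1 .nil (.node 2 .nil .nil)) (.node 2 .nil .nil))) .nil))) (.node 2 (.node 0 (.node 0 (.node 0 .nil .nil) .nil) (.node 1 (.node 2 (.node 2 .nil .nil) .nil) (.node 2 (.node 1 (.node 0 .nil .nil) (.node 2 (.node 0 .nil .nil) .nil)) .nil))) .nil))) (.node 1 (.node 0 (.node 1 (.node 2 (.node 0 .nil .nil) .nil) (.node 2 (.node 0 .nil (.node 2 (.node 1 (.node 0 .nil .nil) .nil) .nil)) .nil)) (.node 1 (.node 1 (.node 1 (.node 2 .nil .nil) .nil) .nil) (.node 2 (.node 0 (.node 0 .nil (.node 2 (.node 1 .nil .nil) .nil)) (.node 1 (.node 1 .nil (.node 2 .nil .nil)) (.node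 2 (.node 0 .nil .nil) .nil))) .nil))) (.node 2 (.node 0 (.node 1 (.node 2 (.node 0 .nil .nil) .nil) (.node 2 (.node 2 .nil .nil) .nil)) (.node 1 (.node 0 (.node 0 .nil (.node 1 .nil .nil)) (.node 1 (.node 0 (.node 0 .nil (.node 2 .nil .nil)) (.node 1 (.node 1 .nil .nil) .nil)) (.node 2 (.node 2 (.node 1 .nil .nil) .nil) .nil))) (.node 2 (.node 0 (.node 0 (.node 1 .nil .nil) (.node 2 .nil .nil)) (.node 1 (.node 0 (.node 0 .nil .nil) (.node 1 (.node 0 .nil (.node 1 .nil .nil)) (.node 2 (.node 0 .nil .nil) .nil))) (.node 2 (.node 0 .nil (.node 1 (.node 2 .nil .nil) .nil)) .nil))) .nil))) .nil))) .nil))) (.node 2 (.node 0 (.node 0 (.node 1 (.node 0 (.node 0 (.node 1 .nil (.node 2 .nil .nil)) .nil) (.node 1 (.node 0 .nil (.node 1 (.node 0 .nil .nil) (.node 2 .nil .nil))) (.node 2 (.node 0 .nil (.node 2 .nil .nil)) .nil))) (.node 2 (.node 0 (.node 0 .nil (.node 1 .nil .nil)) (.node 2 (.node 0 (.node 0 .nil (.node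 2 .nil .nil)) (.node 1 .nil (.node 2 (.node 2 .nil .nil) .nil))) .nil)) .nil)) (.node 1 (.node 0 (.node 0 (.node 0 (.node 1 .nil (.node 2 .nil .nil)) (.node 2 .nil .nil)) (.node 1 (.node 0 .nil (.node 1 .nil (.node 2 .nil .nil))) (.node 2 (.node 0 .nil (.node 1 (.node 1 .nil .nil) (.node 2 .nil .nil))) .nil))) (.node 1 .nil (.node 2 (.node 1 (.node 0 (.node 0 .nil (.node 1 .nil .nil)) (.node 1 .nil (.node 2 (.node 1 .nil .nil) .nil))) (.node 2 (.node 0 (.node 1 .nil (.node 2 .nil .nil)) (.node 2 .nil .nil)) .nil)) .nil))) (.node 2 (.node 0 (.node 0 (.node 0 (.node 2 .nil .nil) (.node 1 (.node 0 .nil .nil) (.node 2 (.node 2 .nil .nil) .nil))) (.node 1 (.node 0 .nil (.node 1 .nil (.node 2 (.node 0 .nil .nil) .nil))) (.node 2 (.node 0 .nil (.node 2 (.node 1 .nil (.node 2 .nil .nil)) .nil)) .nil))) (.node 1 (.node 1 (.node 0 .nil (.node 1 (.node 0 .nil (.node 2 .nil .nil)) .nil)) (.node 2 (.node 2 (.node 2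 .nil .nil) .nil) .nil)) (.node 2 (.node 0 (.node 0 .nil (.node 1 (.node 1 (.node 2 .nil .nil) .nil) (.node 2 (.node 0 .nil (.node 1 .nil .nil)) .nil))) (.node 2 (.node 1 (.node 0 .nil .nil) (.node 2 .nil .nil)) .nil)) .nil))) .nil))) (.node 1 (.node 0 (.node 0 (.node 0 (.node 1 .nil .nil) (.node 1 (.node 0 .nil (.node 1 .nil (.node 2 (.node 1 (.node 2 .nil .nil) .nil) .nil))) (.node 2 (.node 0 (.node 0 .nil .nil) (.node 1 (.node 0 .nil .nil) .nil)) .nil))) (.node 1 (.node 0 .nil (.node 1 (.node 2 .nil .nil) (.node 2 (.node 0 (.node 0 .nil .nil) (.node 1 .nil .nil)) .nil))) (.node 2 (.node 0 (.node 1 .nil .nil) (.node 1 (.node 0 (.node 1 .nil (.node 2 .nil .nil)) (.node 1 (.node 2 .nil .nil) (.node 2 .nil .nil))) (.node 2 (.node 0 (.node 1 .nil (.node 2 .nil .nil)) (.node 1 (.node 0 .nil .nil) .nil)) .nil))) .nil))) (.node 1 (.node 0 (.node 0 (.node 0 .nil (.node 1 .nil (.node 2 (.node 0 .nil .nil) .nil)))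 (.node 1 (.node 0 .nil (.node 2 (.node 2 .nil .nil) .nil)) .nil)) (.node 1 (.node 0 (.node 0 (.node 1 .nil .nil) (.node 1 .nil (.node 2 (.node 0 .nil (.node 1 .nil .nil)) .nil))) (.node 2 (.node 0 .nil (.node 1 (.node 1 .nil .nil) (.node 2 .nil .nil))) .nil)) (.node 2 (.node 0 .nil (.node 1 (.node 0 .nil (.node 2 .nil .nil)) (.node 2 (.node 0 (.node 1 .nil .nil) (.node 2 (.node 2 .nil .nil) .nil)) .nil))) .nil))) (.node 2 (.node 0 (.node 0 (.node 0 .nil .nil) (.node 1 (.node 0 .nil (.node 1 .nil (.node 2 (.node 0 .nil .nil) .nil))) (.node 2 (.node 2 .nil .nil) .nil))) (.node 1 (.node 0 (.node 1 .nil .nil) (.node 1 (.node 0 .nil (.node 2 (.node 1 .nil .nil) .nil)) (.node 2 (.node 1 .nil .nil) .nil))) (.node 2 (.node 0 (.node 2 (.node 1 .nil .nil) .nil) (.node 2 (.node 1 (.node 2 .nil .nil) .nil) .nil)) .nil))) .nil))) (.node 2 (.node 0 (.node 0 (.node 0 (.node 1 (.node 0 .nil (.node 1 .nil .nil)) (.node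 2 .nil .nil)) (.node 1 (.node 1 (.node 0 .nil .nil) (.node 2 .nil .nil)) (.node 2 (.node 0 .nil (.node 1 .nil (.node 2 (.node 0 .nil (.node 2 .nil .nil)) .nil))) .nil))) (.node 1 (.node 0 .nil (.node 1 (.node 0 .nil (.node 1 (.node 2 .nil .nil) .nil)) (.node 2 (.node 0 (.node 2 .nil .nil) (.node 1 .nil .nil)) .nil))) (.node 2 (.node 1 (.node 0 .nil (.node 1 (.node 2 .nil .nil) (.node 2 .nil .nil))) (.node 2 (.node 0 .nil .nil) .nil)) .nil))) (.node 1 (.node 0 (.node 0 (.node 1 (.node 0 .nil .nil) (.node 2 (.node 1 .nil .nil) .nil)) (.node 1 (.node 0 .nil (.node 2 .nil .nil)) (.node 2 .nil .nil))) (.node 1 (.node 0 (.node 0 .nil (.node 1 (.node 2 .nil .nil) .nil)) (.node 2 (.node 1 .nil .nil) .nil)) (.node 2 (.node 0 (.node 1 .nil .nil) (.node 1 (.node 0 (.node 0 .nil (.node 1 .nil (.node 2 .nil .nil))) (.node 2 (.node 0 .nil (.node 1 .nil .nil)) .nil)) (.node 2 (.node 0 .nil .nil) .nil))) .nil))) (.node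 2 (.node 1 (.node 0 (.node 0 (.node 2 .nil .nil) (.node 1 .nil .nil)) (.node 2 (.node 2 .nil .nil) .nil)) (.node 2 (.node 0 (.node 0 (.node 1 .nil .nil) .nil) (.node 1 (.node 0 .nil (.node 1 .nil .nil)) (.node 2 (.node 1 (.node 1 .nil .nil) .nil) .nil))) .nil)) .nil))) .nil))) .nil))) (.node 2 (.node 0 (.node 0 (.node 0 (.node 1 (.node 0 (.node 1 .nil .nil) (.node 1 (.node 0 (.node 2 .nil .nil) (.node 1 .nil (.node 2 (.node 1 .nil .nil) .nil))) (.node 2 (.node 0 (.node 1 .nil (.node 2 (.node 1 .nil .nil) .nil)) (.node 1 .nil (.node 2 (.node 1 .nil .nil) .nil))) .nil))) (.node 2 (.node 0 (.node 1 (.node 0 .nil .nil) .nil) (.node 1 (.node 1 .nil .nil) .nil)) .nil)) (.node 2 (.node 0 (.node 0 (.node 0 .nil (.node 2 (.node 0 .nil .nil) .nil)) (.node 1 (.node 1 .nil (.node 2 (.node 2 .nil .nil) .nil)) (.node 2 (.node 2 .nil .nil) .nil))) (.node 1 (.node 0 (.node 0 (.node 2 .nil .nil) (.node 2 (.node 1 .nil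 (.node 2 .nil .nil)) .nil)) (.node 1 (.node 0 .nil (.node 2 (.node 2 .nil .nil) .nil)) (.node 2 (.node 0 .nil (.node 1 .nil .nil)) .nil))) (.node 2 (.node 0 (.node 1 (.node 2 .nil .nil) .nil) (.node 1 .nil (.node 2 (.node 0 (.node 2 .nil .nil) (.node 1 .nil (.node 2 .nil .nil))) .nil))) .nil))) .nil)) (.node 1 (.node 0 (.node 0 (.node 0 (.node 2 .nil .nil) (.node 1 (.node 1 .nil .nil) (.node 2 (.node 1 (.node 2 .nil .nil) (.node 2 (.node 0 .nil .nil) .nil)) .nil))) (.node 1 (.node 0 (.node 0 (.node 0 .nil .nil) (.node 1 (.node 2 .nil .nil) (.node 2 .nil .nil))) (.node 1 (.node 0 (.node 1 .nil (.node 2 .nil .nil)) (.node 1 (.node 0 .nil (.node 2 .nil .nil)) (.node 2 (.node 2 .nil .nil) .nil))) (.node 2 (.node 0 (.node 1 .nil .nil) (.node 1 (.node 2 .nil .nil) (.node 2 .nil .nil))) .nil))) (.node 2 (.node 0 (.node 1 .nil .nil) (.node 1 (.node 0 (.node 0 .nil .nil) (.node 1 .nil (.node 2 (.node 0 .nil (.node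 2 .nil .nil)) .nil))) (.node 2 (.node 2 .nil .nil) .nil))) .nil))) (.node 1 (.node 0 (.node 0 .nil (.node 2 (.node 0 .nil (.node 1 .nil .nil)) .nil)) (.node 1 (.node 1 (.node 0 (.node 0 .nil .nil) .nil) .nil) (.node 2 (.node 0 .nil (.node 2 (.node 0 .nil (.node 1 (.node 1 .nil (.node 2 .nil .nil)) .nil)) .nil)) .nil))) (.node 2 (.node 0 (.node 0 (.node 0 (.node 1 .nil (.node 2 .nil .nil)) .nil) (.node 1 (.node 0 (.node 2 .nil .nil) (.node 1 .nil (.node 2 .nil .nil))) (.node 2 (.node 1 (.node 1 .nil .nil) (.node 2 (.node 1 .nil .nil) .nil)) .nil))) (.node 1 .nil (.node 2 (.node 0 (.node 0 .nil (.node 1 .nil (.node 2 .nil .nil))) (.node 1 (.node 0 .nil .nil) (.node 2 (.node 1 .nil .nil) .nil))) .nil))) .nil))) (.node 2 (.node 0 (.node 0 (.node 0 (.node 2 (.node 2 .nil .nil) .nil) (.node 1 (.node 1 (.node 2 .nil .nil) .nil) (.node 2 (.node 0 .nil (.node 1 .nil (.node 2 (.node 0 .nil (.node 1 .nil (.node 2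 .nil .nil))) .nil))) .nil))) (.node 1 (.node 2 (.node 0 .nil .nil) .nil) (.node 2 (.node 0 (.node 0 (.node 2 .nil .nil) (.node 1 .nil (.node 2 (.node 2 .nil .nil) .nil))) (.node 1 (.node 0 .nil (.node 1 (.node 1 .nil .nil) .nil)) (.node 2 (.node 0 (.node 0 .nil (.node 1 .nil .nil)) (.node 1 .nil (.node 2 (.node 1 .nil (.node 2 .nil .nil)) .nil))) .nil))) .nil))) (.node 1 (.node 0 (.node 0 (.node 0 .nil (.node 2 .nil .nil)) (.node 2 (.node 2 .nil .nil) .nil)) (.node 1 (.node 0 (.node 0 (.node 0 .nil .nil) (.node 2 .nil .nil)) (.node 1 (.node 1 .nil (.node 2 (.node 2 .nil .nil) .nil)) (.node 2 (.node 0 (.node 0 .nil .nil) (.node 1 .nil (.node 2 .nil .nil))) .nil))) (.node 2 (.node 0 (.node 0 .nil (.node 1 .nil .nil)) (.node 1 (.node 0 .nil (.node 1 (.node 0 .nil .nil) .nil)) (.node 2 (.node 0 .nil (.node 2 (.node 1 .nil (.node 2 .nil .nil)) .nil)) .nil))) .nil))) (.node 2 (.node 0 (.node 0 (.node 0 .nil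 (.node 2 (.node 1 .nil .nil) .nil)) (.node 1 (.node 2 .nil .nil) (.node 2 (.node 0 (.node 0 .nil (.node 1 .nil (.node 2 .nil .nil))) (.node 2 .nil .nil)) .nil))) (.node 1 (.node 0 (.node 1 (.node 1 .nil (.node 2 .nil .nil)) .nil) (.node 1 (.node 1 (.node 1 .nil (.node 2 .nil .nil)) (.node 2 (.node 0 .nil .nil) .nil)) .nil)) (.node 2 (.node 0 (.node 1 (.node 2 .nil .nil) .nil) (.node 1 (.node 0 .nil (.node 1 .nil .nil)) (.node 2 (.node 2 .nil .nil) .nil))) .nil))) .nil))) .nil))) (.node 1 (.node 0 (.node 0 (.node 0 (.node 1 (.node 0 .nil .nil) (.node 2 (.node 1 (.node 1 .nil .nil) .nil) .nil)) (.node 1 (.node 0 (.node 0 .nil (.node 2 .nil .nil)) (.node 2 (.node 1 .nil (.node 2 .nil .nil)) .nil)) (.node 2 (.node 0 (.node 2 .nil .nil) (.node 1 .nil (.node 2 (.node 0 .nil .nil) .nil))) .nil))) (.node 1 (.node 0 (.node 0 (.node 1 (.node 2 .nil .nil) (.node 2 .nil .nil)) (.node 1 (.node 0 (.node 1 .nil .nil)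 .nil) .nil)) (.node 1 (.node 0 (.node 0 .nil (.node 1 .nil (.node 2 (.node 2 .nil .nil) .nil))) (.node 1 (.node 2 (.node 1 .nil .nil) .nil) (.node 2 (.node 0 .nil (.node 1 .nil .nil)) .nil))) (.node 2 (.node 1 (.node 2 (.node 1 .nil .nil) .nil) (.node 2 (.node 0 .nil (.node 2 .nil .nil)) .nil)) .nil))) (.node 2 (.node 0 (.node 0 (.node 1 (.node 1 .nil .nil) .nil) (.node 1 (.node 0 (.node 0 .nil .nil) (.node 2 .nil .nil)) (.node 2 (.node 0 .nil (.node 1 (.node 1 .nil .nil) (.node 2 .nil .nil))) .nil))) (.node 1 (.node 0 (.node 2 .nil .nil) (.node 1 (.node 0 (.node 0 .nil .nil) (.node 1 .nil .nil)) (.node 2 (.node 0 .nil (.node 1 .nil (.node 2 .nil .nil))) .nil))) (.node 2 (.node 1 (.node 0 .nil (.node 1 .nil (.node 2 (.node 2 .nil .nil) .nil))) (.node 2 (.node 1 .nil .nil) .nil)) .nil))) .nil))) (.node 1 (.node 0 (.node 0 (.node 1 (.node 0 (.node 0 .nil .nil) (.node 1 (.node 0 .nil .nil) (.node 2 .nil .nil)))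 .nil) (.node 1 (.node 0 (.node 1 .nil (.node 2 (.node 0 .nil .nil) .nil)) (.node 1 (.node 1 (.node 1 .nil .nil) (.node 2 (.node 1 .nil .nil) .nil)) (.node 2 (.node 0 (.node 0 .nil .nil) .nil) .nil))) (.node 2 (.node 0 (.node 0 (.node 0 .nil (.node 2 .nil .nil)) .nil) (.node 1 (.node 2 .nil .nil) (.node 2 .nil .nil))) .nil))) (.node 1 (.node 0 (.node 0 (.node 0 .nil .nil) (.node 2 (.node 2 (.node 1 .nil .nil) .nil) .nil)) (.node 1 (.node 1 (.node 1 (.node 2 .nil .nil) (.node 2 .nil .nil)) (.node 2 (.node 0 .nil (.node 1 (.node 2 .nil .nil) .nil)) .nil)) (.node 2 (.node 0 (.node 0 .nil (.node 2 .nil .nil)) (.node 1 (.node 0 .nil (.node 2 .nil .nil)) (.node 2 (.node 0 (.node 1 .nil .nil) .nil) .nil))) .nil))) (.node 2 (.node 0 (.node 0 (.node 0 .nil (.node 1 .nil .nil)) (.node 2 (.node 1 .nil (.node 2 .nil .nil)) .nil)) (.node 1 (.node 0 (.node 0 (.node 0 .nil .nil) (.node 1 .nil .nil)) (.node 1 (.node 1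 .nil .nil) (.node 2 (.node 2 .nil .nil) .nil))) (.node 2 (.node 1 (.node 0 (.node 0 .nil .nil) (.node 1 .nil .nil)) (.node 2 (.node 0 (.node 0 .nil .nil) (.node 1 (.node 0 .nil .nil) (.node 2 .nil .nil))) .nil)) .nil))) .nil))) (.node 2 (.node 0 (.node 0 (.node 0 (.node 1 .nil .nil) (.node 1 (.node 2 .nil .nil) (.node 2 (.node 0 .nil (.node 2 .nil .nil)) .nil))) (.node 1 (.node 0 (.node 1 .nil (.node 2 .nil .nil)) (.node 2 (.node 0 (.node 0 .nil .nil) (.node 1 .nil .nil)) .nil)) (.node 2 (.node 1 (.node 0 (.node 0 .nil .nil) (.node 1 .nil .nil)) (.node 2 (.node 1 (.node 0 .nil .nil) .nil) .nil)) .nil))) (.node 1 (.node 1 (.node 0 (.node 1 (.node 2 .nil .nil) (.node 2 .nil .nil)) (.node 1 (.node 0 (.node 2 .nil .nil) .nil) (.node 2 (.node 0 (.node 2 .nil .nil) (.node 1 (.node 0 .nil .nil) .nil)) .nil))) (.node 2 (.node 0 (.node 0 (.node 2 .nil .nil) (.node 2 .nil .nil)) (.node 1 (.node 0 .nil (.node 2 .nil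 .nil)) (.node 2 .nil .nil))) .nil)) (.node 2 (.node 0 (.node 1 (.node 0 .nil (.node 1 (.node 0 .nil .nil) .nil)) (.node 2 .nil .nil)) (.node 1 (.node 0 (.node 2 .nil .nil) (.node 1 (.node 1 (.node 2 .nil .nil) (.node 2 (.node 0 .nil .nil) .nil)) (.node 2 (.node 0 (.node 1 .nil (.node 2 .nil .nil)) (.node 2 .nil .nil)) .nil))) (.node 2 .nil .nil))) .nil))) .nil))) (.node 2 (.node 0 (.node 0 (.node 0 .nil (.node 1 (.node 0 (.node 1 .nil .nil) (.node 1 (.node 0 (.node 1 .nil .nil) (.node 2 .nil .nil)) (.node 2 (.node 1 .nil (.node 2 .nil .nil)) .nil))) (.node 2 (.node 1 (.node 0 (.node 0 .nil .nil) (.node 1 .nil (.node 2 .nil .nil))) (.node 2 (.node 0 (.node 2 .nil .nil) (.node 1 .nil (.node 2 (.node 2 .nil .nil) .nil))) .nil)) .nil))) (.node 1 (.node 0 (.node 0 (.node 2 (.node 2 .nil .nil) .nil) (.node 1 (.node 1 .nil .nil) (.node 2 (.node 1 .nil .nil) .nil))) (.node 1 (.node 0 (.node 0 (.node 1 .nil .nil)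 (.node 1 .nil .nil)) (.node 1 (.node 0 (.node 0 .nil (.node 1 .nil .nil)) (.node 1 (.node 0 .nil .nil) .nil)) (.node 2 (.node 0 (.node 1 .nil .nil) (.node 1 (.node 2 .nil .nil) (.node 2 .nil .nil))) .nil))) .nil)) (.node 2 (.node 0 (.node 0 (.node 2 (.node 0 .nil (.node 1 .nil .nil)) .nil) (.node 1 (.node 2 (.node 1 .nil .nil) .nil) (.node 2 (.node 0 (.node 0 .nil .nil) .nil) .nil))) (.node 1 (.node 0 (.node 0 .nil (.node 2 (.node 2 .nil .nil) .nil)) (.node 2 (.node 0 (.node 2 .nil .nil) (.node 1 .nil (.node 2 (.node 1 .nil .nil) .nil))) .nil)) (.node 2 (.node 0 .nil (.node 1 (.node 2 .nil .nil) (.node 2 (.node 2 .nil .nil) .nil))) .nil))) .nil))) (.node 1 (.node 0 (.node 0 (.node 0 (.node 1 .nil .nil) (.node 2 .nil .nil)) (.node 1 (.node 0 (.node 1 (.node 1 .nil .nil) (.node 2 .nil .nil)) (.node 1 (.node 1 .nil .nil) (.node 2 (.node 0 .nil (.node 2 .nil .nil)) .nil))) (.node 2 (.node 0 (.node 1 .nil .nil)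 (.node 1 (.node 0 .nil (.node 1 .nil (.node 2 (.node 2 .nil .nil) .nil))) (.node 2 (.node 0 .nil (.node 1 .nil (.node 2 (.node 0 .nil .nil) .nil))) .nil))) .nil))) (.node 1 (.node 0 (.node 0 (.node 0 .nil (.node 2 (.node 1 .nil (.node 2 .nil .nil)) .nil)) (.node 2 (.node 1 .nil .nil) .nil)) (.node 1 (.node 0 (.node 0 (.node 1 .nil .nil) (.node 2 .nil .nil)) (.node 1 (.node 0 (.node 0 .nil (.node 1 .nil .nil)) (.node 1 (.node 1 .nil .nil) (.node 2 (.node 1 .nil .nil) .nil))) (.node 2 (.node 0 .nil .nil) .nil))) (.node 2 .nil .nil))) (.node 2 (.node 0 (.node 0 (.node 0 .nil (.node 1 .nil (.node 2 .nil .nil))) (.node 1 (.node 0 .nil (.node 2 (.node 1 .nil .nil) .nil)) (.node 2 (.node 0 (.node 0 .nil .nil) (.node 2 .nil .nil)) .nil))) (.node 1 (.node 1 (.node 1 .nil .nil) (.node 2 (.node 2 (.node 0 .nil .nil) .nil) .nil)) (.node 2 (.node 0 (.node 0 .nil .nil) (.node 1 (.node 1 .nil .nil) (.node 2 (.node 0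 .nil .nil) .nil))) .nil))) .nil))) (.node 2 (.node 0 (.node 0 (.node 0 .nil (.node 1 (.node 1 .nil (.node 2 (.node 1 .nil .nil) .nil)) .nil)) (.node 1 (.node 0 (.node 2 .nil .nil) (.node 1 (.node 0 .nil (.node 1 .nil .nil)) (.node 2 (.node 1 .nil .nil) .nil))) (.node 2 (.node 0 .nil (.node 1 (.node 0 (.node 2 .nil .nil) (.node 1 (.node 0 .nil .nil) (.node 2 .nil .nil))) (.node 2 (.node 2 .nil .nil) .nil))) .nil))) (.node 1 (.node 0 (.node 0 (.node 2 (.node 2 .nil .nil) .nil) (.node 1 (.node 1 (.node 1 .nil .nil) .nil) (.node 2 (.node 1 .nil .nil) .nil))) (.node 1 (.node 0 (.node 1 .nil (.node 2 .nil .nil)) .nil) (.node 2 (.node 0 (.node 1 .nil (.node 2 (.node 0 .nil .nil) .nil)) (.node 2 .nil .nil)) .nil))) (.node 2 (.node 0 (.node 0 (.node 0 .nil (.node 1 (.node 0 .nil .nil) (.node 2 .nil .nil))) (.node 1 (.node 1 (.node 1 .nil .nil) (.node 2 (.node 1 .nil .nil) .nil)) (.node 2 (.node 0 .nil (.node 2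 (.node 1 .nil .nil) .nil)) .nil))) (.node 1 (.node 0 (.node 2 .nil .nil) (.node 1 (.node 1 .nil (.node 2 (.node 0 .nil .nil) .nil)) (.node 2 (.node 0 .nil .nil) .nil))) (.node 2 (.node 0 (.node 0 .nil (.node 1 .nil .nil)) (.node 2 (.node 0 .nil (.node 1 (.node 2 .nil .nil) .nil)) .nil)) .nil))) .nil))) .nil))) .nil))) .nil))),
   3360⟩

/-- All classes. -/
def classes : List Cls := [cls0, cls1, cls2]

/-- Value and size of each class. -/
def table : List (ℕ × ℕ) := [(4096, 15), (512, 420), (288, 3360)]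

theorem cert_ok : suborbOk gens base classes 16777216 = true := by decide +kernel

theorem table_ok : classes.map (fun c => (crossL base c.root, c.size)) = table := by decide +kernel

end CfsgLib.Golay.Suborb.OctTrio
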