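/-
Suborbit certificate PQOct.
-/
import Cfsg.Agent.Golay.Suborb

set_option autoImplicit false
set_option maxRecDepth 20000

namespace CfsgLib.Golay.Suborb.PQOct

/-- Masks of the base family. -/
def base : List ℕ := [8388608, 8388609, 8391797]

/-- Elements of the group fixing the base family. -/
def gens : List (List ℕ) :=
  [[0, 13, 6, 22, 2, 11, 5, 7, 15, 8, 10, 4, 20, 14, 12, 3, 18, 19, 21, 16, 1, 17, 9, 23],
   [0, 17, 4, 19, 2, 5, 10, 3, 14, 12, 6, 11, 13, 20, 22, 1, 7, 21, 8, 16, 9, 15, 18, 23],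
   [0, 22, 4, 12, 11, 10, 2, 1, 7, 21, 5, 6, 14, 9, 8, 17, 15, 20, 3, 13, 19, 16, 18, 23]]

/-- Class 0. -/
def cls0 : Cls :=
  ⟨[8391797],
   .nil,
   1⟩

/-- Class 1. -/
def cls1 : Cls :=
  ⟨[13062145],
   (.node 0 (.node 0 (.node 0 .nil (.node 2 .nil .nil)) (.node 1 (.node 1 .nil .nil) (.node 2 .nil .nil))) (.node 1 (.node 0 .nil (.node 2 .nil .nil)) (.node 2 (.node 0 (.node 0 .nil .nil) (.node 1 .nil (.node 2 .nil .nil))) .nil))),
   16⟩

/-- Class 2. -/
def cls2 : Cls :=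
  ⟨[8966165],
   (.node 0 (.node 0 (.node 0 (.node 1 (.node 2 .nil .nil) (.node 2 .nil .nil)) (.node 1 (.node 0 (.node 1 .nil .nil) (.node 2 (.node 1 .nil (.node 2 .nil .nil)) .nil)) (.node 2 (.node 2 .nil .nil) .nil))) (.node 1 (.node 0 (.node 0 (.node 1 .nil .nil) (.node 1 (.node 0 .nil .nil) .nil)) .nil) .nil)) (.node 1 (.node 0 (.node 0 (.node 1 .nil .nil) (.node 1 (.node 0 .nil (.node 2 (.node 1 .nil .nil) .nil)) (.node 2 (.node 0 (.node 1 .nil .nil) (.node 2 .nil .nil)) .nil))) (.node 1 (.node 0 (.node 0 .nil (.node 1 .nil .nil)) (.node 2 (.node 1 .nil (.node 2 (.node 0 .nil (.node 1 .nil .nil)) .nil)) .nil)) (.node 2 (.node 1 (.node 0 .nil .nil) (.node 2 (.node 0 .nil .nil) .nil)) .nil))) (.node 2 (.node 1 (.node 0 (.node 0 .nil (.node 1 .nil .nil)) (.node 2 (.node 0 .nil (.node 2 .nil .nil)) .nil)) (.node 2 (.node 0 (.node 1 .nil (.node 2 .nil .nil)) (.node 1 .nil .nil)) .nil)) .nil))),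
   60⟩

/-- All classes. -/
def classes : List Cls := [cls0, cls1, cls2]

/-- Value and size of each class. -/
def table : List (ℕ × ℕ) := [(4113, 1), (33, 16), (273, 60)]

theorem cert_ok : suborbOk gens base classes 16777216 = true := by decide +kernel

theorem table_ok : classes.map (fun c => (crossL base c.root, c.size)) = table := by decide +kernel

end CfsgLib.Golay.Suborb.PQOct
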