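/-
Suborbit certificate PQOctSub.
-/
import Cfsg.Agent.Golay.Suborb

set_option autoImplicit false
set_option maxRecDepth 20000

namespace CfsgLib.Golay.Suborb.PQOctSub

/-- Masks of the base family. -/
def base : List ℕ := [8388608, 8388609, 13938692]

/-- Elements of the group fixing the base family. -/
def gens : List (List ℕ) :=
  [[0, 21, 13, 14, 4, 19, 9, 5, 17, 8, 7, 10, 2, 15, 16, 22, 6, 3, 12, 1, 18, 11, 20, 23],
   [0, 5, 2, 3, 21, 1, 6, 11, 9, 8, 19, 7, 12, 15, 17, 13, 16, 14, 22, 10, 20, 4, 18, 23],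
   [0, 4, 15, 5, 9, 7, 17, 10, 19, 6, 21, 14, 12, 22, 8, 13, 11, 1, 2, 16, 20, 3, 18, 23]]

/-- Class 0. -/
def cls0 : Cls :=
  ⟨[13938692],
   .nil,
   1⟩

/-- Class 1. -/
def cls1 : Cls :=
  ⟨[13303882],
   (.node 0 (.node 0 (.node 0 (.node 0 (.node 0 .nil (.node 2 (.node 1 .nil (.node 2 .nil .nil)) .nil)) (.node 2 (.node 0 (.node 2 .nil .nil) .nil) .nil)) (.node 1 (.node 2 (.node 0 .nil (.node 1 .nil (.node 2 .nil .nil))) .nil) (.node 2 (.node 0 (.node 0 (.node 0 (.node 1 .nil .nil) .nil) (.node 2 .nil .nil)) (.node 2 (.node 2 (.node 1 .nil (.node 2 .nil .nil)) .nil) .nil)) .nil))) (.node 1 (.node 0 (.node 0 (.node 2 .nil .nil) (.node 1 .nil .nil)) (.node 2 (.node 0 (.node 1 .nil (.node 2 .nil .nil)) (.node 1 (.node 0 .nil (.node 2 (.node 2 .nil .nil) .nil)) (.node 2 (.node 0 .nil (.node 2 .nil .nil)) .nil))) .nil)) .nil)) (.node 1 (.node 0 (.node 0 (.node 0 (.node 0 .nil .nil) (.node 2 (.node 1 .nil .nil) .nil)) .nil) (.node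 2 (.node 0 .nil (.node 2 .nil .nil)) .nil)) (.node 2 (.node 0 (.node 2 (.node 2 .nil .nil) .nil) (.node 1 (.node 0 (.node 2 .nil .nil) (.node 2 (.node 0 .nil (.node 1 .nil (.node 2 (.node 1 .nil .nil) .nil))) .nil)) (.node 2 (.node 0 (.node 1 (.node 2 .nil .nil) .nil) (.node 2 .nil .nil)) .nil))) .nil))),
   70⟩

/-- Class 2. -/
def cls2 : Cls :=
  ⟨[10305542],
   (.node 0 (.node 0 (.node 0 (.node 1 (.node 2 .nil .nil) .nil) (.node 1 (.node 0 (.node 0 (.node 1 .nil .nil) (.node 1 .nil .nil)) (.node 2 (.node 0 .nil (.node 1 .nil .nil)) .nil)) (.node 2 (.node 0 .nil (.node 2 .nil .nil)) .nil))) (.node 1 (.node 0 (.node 0 (.node 0 .nil .nil) (.node 1 .nil (.node 2 (.node 0 (.node 0 .nil .nil) (.node 2 (.node 1 .nil .nil) .nil)) .nil))) (.node 2 (.node 0 (.node 1 .nil (.node 2 (.node 2 .nil .nil) .nil)) (.node 1 .nil (.node 2 (.node 1 .nil .nil) .nil))) .nil)) (.node 2 (.node 0 (.node 0 (.node 1 .nil .nil) (.node 1 (.node 0 .nil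 (.node 2 .nil .nil)) (.node 2 .nil .nil))) (.node 1 (.node 0 (.node 1 .nil .nil) .nil) (.node 2 (.node 0 (.node 1 .nil (.node 2 .nil .nil)) .nil) .nil))) .nil))) (.node 1 (.node 0 (.node 1 (.node 0 (.node 0 .nil .nil) (.node 2 (.node 1 .nil .nil) .nil)) .nil) (.node 2 (.node 0 (.node 0 (.node 0 .nil (.node 2 .nil .nil)) (.node 1 (.node 0 .nil .nil) .nil)) (.node 1 (.node 0 .nil .nil) .nil)) .nil)) (.node 2 (.node 0 (.node 0 (.node 0 (.node 0 .nil .nil) (.node 1 (.node 0 .nil (.node 2 .nil .nil)) (.node 2 (.node 1 .nil .nil) .nil))) (.node 1 (.node 0 (.node 2 .nil .nil) (.node 2 (.node 2 .nil .nil) .nil)) (.node 2 (.node 2 (.node 0 .nil (.node 1 .nil .nil)) .nil) .nil))) (.node 1 (.node 0 (.node 1 .nil (.node 2 .nil .nil)) .nil) (.node 2 (.node 0 (.node 0 (.node 0 .nil (.node 2 .nil .nil)) (.node 1 (.node 2 .nil .nil) (.node 2 (.node 0 .nil (.node 1 .nil .nil)) .nil))) (.node 1 (.node 0 .nil (.node 2 (.node 2 .nil .nil) .nil))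 (.node 2 (.node 2 .nil .nil) .nil))) .nil))) .nil))),
   105⟩

/-- All classes. -/
def classes : List Cls := [cls0, cls1, cls2]

/-- Value and size of each class. -/
def table : List (ℕ × ℕ) := [(4098, 1), (18, 70), (258, 105)]

theorem cert_ok : suborbOk gens base classes 16777215 = true := by decide +kernel

theorem table_ok : classes.map (fun c => (crossL base c.root, c.size)) = table := by decide +kernel

end CfsgLib.Golay.Suborb.PQOctSub
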