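/-
Suborbit certificate PQS.
-/
import Cfsg.Agent.Golay.SuborbInv

set_option autoImplicit false
set_option maxRecDepth 20000

namespace CfsgLib.Golay.Suborb.PQS

/-- Masks of the base family. -/
def base : List ℕ := [8388608, 8388609, 8388629]

/-- Elements of the group fixing the base family. -/
def gens : List (List ℕ) :=
  [[0, 22, 4, 5, 2, 19, 14, 3, 10, 11, 15, 12, 20, 13, 17, 18, 16, 21, 8, 7, 9, 6, 1, 23],
   [0, 14, 2, 10, 4, 8, 3, 17, 11, 6, 9, 21, 22, 12, 16, 13, 19, 7, 20, 1, 18, 5, 15, 23],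
   [0, 19, 4, 21, 2, 22, 13, 10, 3, 8, 16, 1, 20, 14, 17, 18, 15, 5, 11, 7, 6, 9, 12, 23],
   [0, 13, 2, 20, 4, 8, 3, 11, 17, 18, 9, 21, 12, 22, 19, 14, 16, 5, 10, 15, 6, 7, 1, 23]]

/-- Class 0. -/
def cls0 : Cls :=
  ⟨[20],
   .nil,
   1⟩

/-- Class 1. -/
def cls1 : Cls :=
  ⟨[8194],
   (.node 0 (.node 1 (.node 0 (.node 0 .nil (.node 2 .nil (.node 3 .nil .nil))) .nil) (.node 3 (.node 1 (.node 0 .nil .nil) .nil) .nil)) (.node 1 (.node 0 (.node 0 .nil (.node 1 (.node 0 .nil (.node 2 .nil .nil)) (.node 2 .nil .nil))) (.node 1 .nil (.node 3 (.node 0 (.node 0 .nil .nil) .nil) .nil))) (.node 2 (.node 0 (.node 0 .nil (.node 2 .nil (.node 3 (.node 1 .nil .nil) .nil))) (.node 1 (.node 3 .nil .nil) (.node 3 .nil .nil))) .nil))),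
   30⟩

/-- Class 2. -/
def cls2 : Cls :=
  ⟨[6],
   (.node 0 (.node 1 (.node 0 (.node 0 .nil (.node 1 .nil (.node 2 .nil (.node 3 .nil .nil)))) .nil) (.node 2 (.node 0 (.node 0 .nil (.node 1 .nil (.node 2 .nil (.node 3 .nil .nil)))) .nil) (.node 3 .nil .nil))) (.node 1 (.node 0 (.node 0 (.node 2 .nil .nil) (.node 1 (.node 0 .nil .nil) (.node 2 (.node 1 .nil .nil) (.node 3 .nil .nil)))) (.node 1 (.node 0 .nil .nil) (.node 3 (.node 3 .nil .nil) .nil))) (.node 2 (.node 0 (.node 0 .nil (.node 1 (.node 0 .nil .nil) (.node 2 .nil (.node 3 .nil .nil)))) .nil) (.node 3 (.node 0 (.node 1 .nil .nil) (.node 2 .nil (.node 3 .nil .nil))) .nil)))),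
   40⟩

/-- Class 3. -/
def cls3 : Cls :=
  ⟨[10],
   (.node 0 (.node 0 (.node 0 (.node 3 .nil .nil) (.node 1 (.node 0 .nil (.node 1 .nil (.node 2 .nil (.node 3 .nil .nil)))) (.node 2 (.node 0 .nil (.node 1 .nil (.node 2 .nil (.node 3 .nil .nil)))) (.node 3 (.node 0 .nil (.node 2 (.node 0 .nil .nil) (.node 3 (.node 1 .nil .nil) .nil))) .nil)))) (.node 1 (.node 0 (.node 1 (.node 1 .nil .nil) (.node 3 (.node 1 .nil (.node 3 .nil .nil)) .nil)) (.node 1 (.node 1 .nil (.node 3 .nil .nil)) (.node 2 (.node 0 (.node 1 .nil .nil) (.node 1 .nil (.node 2 .nil .nil))) (.node 3 (.node 0 (.node 2 .nil .nil) (.node 1 .nil (.node 2 .nil (.node 3 .nil .nil)))) .nil)))) (.node 2 (.node 0 (.node 0 (.node 1 .nil .nil) (.node 3 (.node 0 .nil .nil) .nil)) (.node 1 (.node 0 (.node 0 .nil (.node 2 .nil .nil)) .nil) (.node 2 (.node 2 (.node 0 .nil .nil) .nil) (.node 3 (.node 2 .nil .nil) .nil)))) (.node 3 (.node 0 (.node 0 .nil (.node 1 .nil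 (.node 2 .nil (.node 3 .nil .nil)))) (.node 1 (.node 0 .nil .nil) (.node 2 (.node 0 .nil (.node 1 .nil (.node 2 .nil (.node 3 .nil .nil)))) (.node 3 (.node 0 .nil (.node 1 (.node 0 .nil .nil) .nil)) .nil)))) .nil)))) (.node 1 (.node 0 (.node 0 (.node 0 .nil (.node 1 .nil (.node 2 .nil .nil))) (.node 1 (.node 0 .nil (.node 3 .nil .nil)) (.node 2 (.node 0 .nil .nil) (.node 3 (.node 1 .nil .nil) .nil)))) (.node 1 (.node 0 .nil (.node 1 (.node 0 .nil .nil) (.node 3 (.node 3 .nil .nil) .nil))) (.node 2 (.node 0 (.node 0 .nil .nil) (.node 2 (.node 0 .nil .nil) (.node 3 (.node 0 .nil .nil) .nil))) (.node 3 (.node 0 (.node 0 .nil .nil) (.node 1 .nil (.node 2 (.node 0 .nil (.node 1 .nil .nil)) (.node 3 (.node 0 .nil .nil) .nil)))) .nil)))) (.node 2 (.node 0 (.node 0 .nil (.node 1 (.node 0 .nil .nil) (.node 2 (.node 1 .nil .nil) (.node 3 (.node 0 .nil (.node 1 .nil (.node 2 .nil (.node 3 .nil .nil)))) .nil)))) (.node 1 (.node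 0 (.node 0 .nil .nil) (.node 1 (.node 0 .nil .nil) (.node 3 (.node 1 .nil .nil) .nil))) (.node 2 (.node 1 (.node 0 .nil (.node 2 .nil (.node 3 .nil .nil))) (.node 2 (.node 0 .nil (.node 3 .nil .nil)) (.node 3 (.node 0 .nil .nil) .nil))) (.node 3 .nil .nil)))) (.node 3 (.node 0 (.node 1 (.node 0 .nil (.node 1 .nil .nil)) (.node 3 .nil .nil)) (.node 1 (.node 0 (.node 2 .nil .nil) (.node 1 .nil (.node 2 (.node 3 .nil .nil) (.node 3 (.node 2 .nil .nil) .nil)))) (.node 2 (.node 1 (.node 1 .nil (.node 2 .nil .nil)) .nil) (.node 3 (.node 1 .nil (.node 2 .nil .nil)) .nil)))) .nil)))),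
   160⟩

/-- All classes. -/
def classes : List Cls := [cls0, cls1, cls2, cls3]

/-- Value and size of each class. -/
def table : List (ℕ × ℕ) := [(5016, 1), (1000, 30), (1001, 40), (0, 160)]

theorem cert_ok : suborbOk gens base classes 16777214 = true := by decide +kernel

theorem table_ok : classes.map (fun c => (inv2L base c.root, c.size)) = table := by decide +kernel

end CfsgLib.Golay.Suborb.PQS
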