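/-
Suborbit certificate PQTrans.
-/
import Cfsg.Agent.Golay.Suborb

set_option autoImplicit false
set_option maxRecDepth 20000

namespace CfsgLib.Golay.Suborb.PQTrans

/-- Masks of the base family. -/
def base : List ℕ := [8388608, 8388609]

/-- Elements of the group fixing the base family. -/
def gens : List (List ℕ) :=
  [[0, 20, 18, 3, 4, 15, 22, 6, 13, 12, 9, 11, 10, 17, 14, 21, 2, 8, 16, 1, 19, 5, 7, 23],
   [0, 5, 4, 13, 17, 18, 2, 10, 8, 14, 20, 7, 1, 19, 12, 9, 22, 3, 15, 6, 16, 11, 21, 23],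
   [0, 6, 19, 12, 8, 13, 20, 10, 3, 7, 2, 5, 9, 16, 22, 1, 18, 11, 15, 14, 21, 17, 4, 23]]

/-- Class 0. -/
def cls0 : Cls :=
  ⟨[13938692],
   (.node 0 (.node 0 (.node 1 (.node 0 (.node 0 (.node 1 .nil .nil) (.node 2 (.node 1 .nil .nil) .nil)) (.node 1 (.node 1 (.node 0 .nil (.node 1 .nil .nil)) .nil) (.node 2 (.node 0 (.node 0 .nil (.node 1 .nil (.node 2 .nil .nil))) (.node 2 (.node 0 .nil (.node 2 .nil .nil)) .nil)) .nil))) (.node 2 (.node 0 (.node 0 .nil (.node 1 .nil (.node 2 .nil .nil))) (.node 1 (.node 0 (.node 0 .nil (.node 1 .nil .nil)) (.node 1 (.node 2 .nil .nil) (.node 2 (.node 2 .nil .nil) .nil))) (.node 2 (.node 0 (.node 0 (.node 2 .nil .nil) .nil) (.node 1 (.node 1 (.node 0 .nil .nil) .nil) .nil)) .nil))) .nil)) (.node 1 (.node 0 (.node 0 (.node 1 .nil (.node 2 .nil .nil)) (.node 1 (.node 1 (.node 0 .nil (.node 1 .nil .nil)) (.node 2 .nil .nil)) (.node 2 (.node 0 (.node 0 .nil .nil) (.node 1 (.node 0 .nil (.node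 2 .nil .nil)) (.node 2 (.node 0 .nil .nil) .nil))) .nil))) (.node 1 (.node 0 (.node 1 (.node 2 .nil .nil) (.node 2 (.node 0 .nil .nil) .nil)) (.node 1 (.node 0 (.node 2 .nil .nil) (.node 1 (.node 1 .nil .nil) .nil)) .nil)) .nil)) (.node 2 (.node 0 (.node 0 (.node 1 .nil (.node 2 .nil .nil)) (.node 2 (.node 0 .nil .nil) .nil)) (.node 1 (.node 0 (.node 1 .nil (.node 2 (.node 0 .nil .nil) .nil)) (.node 1 (.node 1 (.node 0 .nil (.node 1 .nil .nil)) (.node 2 (.node 1 .nil .nil) .nil)) (.node 2 (.node 1 .nil (.node 2 .nil .nil)) .nil))) (.node 2 (.node 0 (.node 0 .nil (.node 1 (.node 1 .nil .nil) (.node 2 (.node 1 .nil .nil) .nil))) (.node 1 (.node 0 .nil (.node 2 .nil .nil)) (.node 2 (.node 0 .nil .nil) .nil))) .nil))) .nil))) (.node 1 (.node 0 (.node 0 (.node 1 (.node 1 .nil .nil) (.node 2 (.node 0 (.node 1 .nil .nil) (.node 1 .nil .nil)) .nil)) (.node 1 (.node 0 (.node 0 .nil (.node 1 (.node 1 .nil (.node 2 .nil .nil)) (.node 2 (.node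 2 .nil .nil) .nil))) (.node 2 (.node 0 (.node 0 .nil .nil) (.node 1 .nil (.node 2 (.node 0 .nil .nil) .nil))) .nil)) (.node 2 (.node 0 (.node 2 .nil .nil) (.node 1 (.node 0 (.node 1 .nil .nil) (.node 1 (.node 0 .nil (.node 1 .nil .nil)) .nil)) (.node 2 (.node 1 (.node 1 .nil (.node 2 .nil .nil)) (.node 2 .nil .nil)) .nil))) .nil))) (.node 1 (.node 0 (.node 2 .nil .nil) (.node 1 (.node 0 .nil (.node 1 (.node 0 .nil (.node 1 .nil .nil)) (.node 2 (.node 1 .nil .nil) .nil))) (.node 2 (.node 0 (.node 0 .nil .nil) (.node 2 (.node 0 (.node 2 .nil .nil) (.node 1 .nil (.node 2 .nil .nil))) .nil)) .nil))) (.node 2 (.node 0 (.node 0 .nil (.node 1 (.node 2 .nil .nil) (.node 2 (.node 0 .nil .nil) .nil))) (.node 1 (.node 0 (.node 0 .nil (.node 2 (.node 0 .nil .nil) .nil)) (.node 1 (.node 0 .nil (.node 1 .nil .nil)) (.node 2 (.node 2 (.node 0 .nil .nil) .nil) .nil))) .nil)) .nil))) .nil)),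
   176⟩

/-- All classes. -/
def classes : List Cls := [cls0]

/-- Value and size of each class. -/
def table : List (ℕ × ℕ) := [(2, 176)]

theorem cert_ok : suborbOk gens base classes 16777215 = true := by decide +kernel

theorem table_ok : classes.map (fun c => (crossL base c.root, c.size)) = table := by decide +kernel

end CfsgLib.Golay.Suborb.PQTrans
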