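/-
Suborbit certificate PairPair.
-/
import Cfsg.Agent.Golay.Suborb

set_option autoImplicit false
set_option maxRecDepth 20000

namespace CfsgLib.Golay.Suborb.PairPair

/-- Masks of the base family. -/
def base : List ℕ := [8388609]

/-- Elements of the group fixing the base family. -/
def gens : List (List ℕ) :=
  [[23, 6, 7, 2, 5, 1, 8, 20, 22, 12, 15, 4, 14, 17, 19, 18, 16, 21, 3, 11, 10, 9, 13, 0],
   [23, 22, 17, 4, 7, 21, 15, 8, 18, 20, 9, 14, 16, 11, 5, 13, 10, 19, 12, 6, 3, 2, 1, 0],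
   [23, 5, 4, 15, 14, 8, 17, 21, 12, 2, 11, 13, 3, 20, 7, 6, 16, 1, 18, 22, 10, 19, 9, 0]]

/-- Class 0. -/
def cls0 : Cls :=
  ⟨[8388609],
   .nil,
   1⟩

/-- Class 1. -/
def cls1 : Cls :=
  ⟨[3],
   (.node 0 (.node 0 (.node 1 (.node 0 (.node 1 .nil (.node 2 .nil .nil)) (.node 1 (.node 0 .nil (.node 1 .nil (.node 2 .nil .nil))) (.node 2 .nil .nil))) (.node 2 (.node 0 (.node 2 .nil .nil) (.node 1 (.node 1 .nil .nil) .nil)) .nil)) (.node 1 (.node 1 (.node 1 .nil (.node 2 .nil .nil)) .nil) (.node 2 (.node 0 (.node 1 .nil (.node 2 .nil .nil)) (.node 1 (.node 1 (.node 0 .nil .nil) (.node 2 .nil .nil)) (.node 2 (.node 2 .nil .nil) .nil))) .nil))) (.node 1 (.node 0 (.node 0 .nil (.node 1 (.node 0 .nil .nil) (.node 2 (.node 0 .nil .nil) .nil))) (.node 2 (.node 2 (.node 0 .nil .nil) .nil) .nil)) (.node 2 (.node 1 (.node 0 .nil .nil) .nil) .nil))),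
   44⟩

/-- Class 2. -/
def cls2 : Cls :=
  ⟨[6],
   (.node 0 (.node 0 (.node 0 (.node 0 (.node 2 (.node 0 .nil (.node 1 (.node 2 .nil .nil) (.node 2 .nil .nil))) .nil) (.node 2 (.node 2 (.node 0 .nil (.node 1 .nil .nil)) .nil) .nil)) (.node 1 (.node 0 (.node 0 (.node 0 (.node 2 .nil .nil) (.node 1 .nil (.node 2 .nil .nil))) (.node 1 (.node 1 .nil (.node 2 (.node 0 .nil .nil) .nil)) (.node 2 (.node 1 (.node 1 .nil .nil) .nil) .nil))) (.node 1 (.node 0 .nil (.node 1 (.node 2 .nil .nil) (.node 2 .nil .nil))) (.node 2 (.node 1 (.node 1 .nil .nil) (.node 2 (.node 0 .nil .nil) .nil)) .nil))) (.node 2 (.node 0 (.node 0 .nil (.node 1 (.node 1 .nil .nil) .nil)) (.node 1 (.node 0 (.node 1 .nil (.node 2 .nil .nil)) (.node 1 .nil (.node 2 (.node 2 .nil .nil) .nil))) (.node 2 (.node 0 (.node 0 .nil .nil) (.node 1 (.node 2 .nil .nil) .nil)) .nil))) .nil))) (.node 1 (.node 0 (.node 0 (.node 0 (.node 1 .nil (.node 2 .nil .nil)) (.node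 1 (.node 2 .nil .nil) (.node 2 (.node 2 .nil .nil) .nil))) (.node 1 (.node 0 (.node 0 .nil .nil) (.node 1 (.node 0 .nil (.node 1 .nil .nil)) (.node 2 .nil .nil))) (.node 2 (.node 0 (.node 0 .nil .nil) (.node 1 (.node 0 .nil .nil) (.node 2 (.node 0 .nil (.node 2 .nil .nil)) .nil))) .nil))) (.node 1 (.node 0 (.node 0 (.node 0 .nil .nil) (.node 1 (.node 0 .nil .nil) .nil)) (.node 1 (.node 1 (.node 0 .nil (.node 1 .nil .nil)) .nil) (.node 2 (.node 0 (.node 0 .nil (.node 1 .nil (.node 2 .nil .nil))) (.node 2 .nil .nil)) .nil))) (.node 2 (.node 1 (.node 0 .nil (.node 2 (.node 2 .nil .nil) .nil)) .nil) .nil))) (.node 2 (.node 0 (.node 0 (.node 0 (.node 0 .nil (.node 1 .nil .nil)) (.node 1 .nil .nil)) (.node 1 (.node 0 .nil (.node 2 .nil .nil)) .nil)) (.node 1 (.node 0 (.node 0 .nil .nil) (.node 1 (.node 0 .nil (.node 1 .nil (.node 2 (.node 0 .nil .nil) .nil))) (.node 2 (.node 2 .nil .nil) .nil))) .nil)) .nil))) (.node 1 (.node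 0 (.node 0 (.node 0 (.node 2 (.node 1 .nil .nil) .nil) .nil) (.node 1 (.node 0 (.node 0 .nil (.node 1 .nil (.node 2 .nil .nil))) (.node 1 (.node 1 (.node 0 .nil .nil) .nil) (.node 2 .nil .nil))) (.node 2 (.node 0 .nil (.node 1 (.node 2 (.node 1 .nil .nil) .nil) .nil)) .nil))) (.node 1 (.node 0 (.node 0 (.node 1 .nil .nil) (.node 2 (.node 1 .nil (.node 2 .nil .nil)) .nil)) (.node 1 (.node 0 (.node 1 .nil .nil) (.node 1 (.node 1 .nil (.node 2 (.node 1 .nil .nil) .nil)) .nil)) (.node 2 (.node 0 (.node 1 .nil .nil) (.node 1 (.node 0 .nil (.node 1 .nil .nil)) (.node 2 (.node 0 (.node 1 .nil .nil) (.node 2 .nil .nil)) .nil))) .nil))) (.node 2 (.node 1 (.node 0 (.node 2 .nil .nil) (.node 1 (.node 2 .nil .nil) (.node 2 (.node 0 (.node 0 .nil .nil) .nil) .nil))) (.node 2 (.node 0 (.node 1 .nil (.node 2 .nil .nil)) .nil) .nil)) .nil))) (.node 2 (.node 0 (.node 0 (.node 0 (.node 2 .nil .nil) (.node 1 .nil (.node 2 (.node 2 (.node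 2 .nil .nil) .nil) .nil))) (.node 1 (.node 0 .nil (.node 2 .nil .nil)) (.node 2 (.node 0 (.node 0 (.node 2 .nil .nil) (.node 2 (.node 1 .nil .nil) .nil)) (.node 1 (.node 0 .nil .nil) (.node 2 (.node 0 .nil .nil) .nil))) .nil))) (.node 1 (.node 0 (.node 1 (.node 1 .nil (.node 2 .nil .nil)) (.node 2 (.node 0 .nil .nil) .nil)) (.node 1 (.node 0 (.node 0 .nil .nil) (.node 1 (.node 1 .nil (.node 2 .nil .nil)) .nil)) (.node 2 (.node 1 .nil .nil) .nil))) (.node 2 (.node 0 (.node 0 (.node 1 .nil .nil) (.node 2 (.node 2 .nil .nil) .nil)) (.node 1 (.node 2 (.node 0 (.node 2 .nil .nil) (.node 1 .nil .nil)) .nil) (.node 2 (.node 0 (.node 0 .nil .nil) (.node 1 .nil (.node 2 .nil .nil))) .nil))) .nil))) .nil))),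
   231⟩

/-- All classes. -/
def classes : List Cls := [cls0, cls1, cls2]

/-- Value and size of each class. -/
def table : List (ℕ × ℕ) := [(16, 1), (1, 44), (0, 231)]

theorem cert_ok : suborbOk gens base classes 16777214 = true := by decide +kernel

theorem table_ok : classes.map (fun c => (crossL base c.root, c.size)) = table := by decide +kernel

end CfsgLib.Golay.Suborb.PairPair
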